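import Groth.Agent.L07.KoszulRel
import Groth.Prelude.Def_CAlgX

/-!
# First Koszul homology and intersections `I ∩ J²`
-/

set_option autoImplicit false
set_option linter.style.haveILetI false
set_option backward.isDefEq.respectTransparency.types false

universe u

open CategoryTheory CategoryTheory.Limits CochainComplex CochainComplex.HomComplex CohIII
open Groth.L02.PC (coneEquiv coneEquiv_d)
open Groth.L04.Koszul
open Groth.L28.Kun (Z cl cl_surjective cl_eq_zero_iff homologyMap_cl)

namespace Groth.L19.Thick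

variable {A : Type u} [CommRing A]

variable (M : ModuleCat.{u} A)

/-- the trivial relations -/
def trivM {c : ℕ} (f : Fin c → A) : Submodule A (Fin c → M) :=
  Submodule.span A {v : Fin c → M | ∃ (i j : Fin c) (m : M), v = Pi.single i (f j • m) - Pi.single j (f i • m)}

theorem cons_zero_mem_triv {f : A} {fs : List A} {v : Fin fs.length → M}
    (hv : v ∈ trivM M fun i : Fin fs.length => fs[i.1]) :
    (Fin.cons (α := fun _ => M) 0 v : Fin (fs.length + 1) → M) ∈
      trivM M fun i : Fin (fs.length + 1) => (f :: fs)[i.1] := by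
  induction hv using Submodule.span_induction with
  | mem x hx =>
    obtain ⟨i, j, m, rfl⟩ := hx
    refine Submodule.subset_span ⟨i.succ, j.succ, m, funext fun k => ?_⟩
    refine Fin.cases ?_ (fun l => ?_) k
    · simp [(Fin.succ_ne_zero _).symm]
    · simp [Pi.single_apply]
  | zero =>
    convert Submodule.zero_mem _
    funext k
    refine Fin.cases ?_ (fun l => ?_) k <;> simp
  | add x y _ _ hx hy =>
    convert add_mem hx hy using 1
    funext k
    refine Fin.cases ?_ (fun l => ?_) k <;> simp
  | smul a x _ hx =>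
    convert Submodule.smul_mem _ a hx using 1
    funext k
    refine Fin.cases ?_ (fun l => ?_) k <;> simp

/-- Coordinates on the two last terms of the Koszul complex, the boundaries being trivial relations. -/
theorem exists_coordinates_triv : ∀ fs : List A,
    ∃ (e : (koszulCx M fs).X 0 ≃ₗ[A] M) (ρ : (koszulCx M fs).X (-1) →ₗ[A] (Fin fs.length → M)),
      Function.Surjective ρ ∧
      (∀ z, e ((koszulCx M fs).d (-1) 0 z) = ∑ i : Fin fs.length, fs[i.1] • ρ z i) ∧
      ∀ w, ρ ((koszulCx M fs).d (-2) (-1) w) ∈ trivM M fun i : Fin fs.length => fs[i.1]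
  | [] => by
    refine ⟨(HomologicalComplex.singleObjXIsoOfEq (ComplexShape.up ℤ) (0 : ℤ) M 0 rfl).toLinearEquiv,
      0, fun m => ⟨0, funext fun i => i.elim0⟩, fun z => ?_, fun w => Submodule.zero_mem _⟩
    have := ModuleCat.isZero_iff_subsingleton.1 (isZero_X M [] (-1) (Or.inr (by norm_num)))
    rw [Subsingleton.elim z 0, map_zero, map_zero]
    exact Finset.sum_eq_zero (fun i _ => i.elim0) |>.symm
  | f :: fs => by
    obtain ⟨e, ρ, hρ, hd, hw⟩ := exists_coordinates_triv fs
    let φ := stepHom M f fs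
    have hone := ModuleCat.isZero_iff_subsingleton.1 (isZero_X M fs 1 (Or.inl one_pos))
    let E0 := coneEquiv φ 0 1 (zero_add 1)
    let E1 := coneEquiv φ (-1) 0 (neg_add_cancel 1)
    let e' : (mappingCone φ).X 0 ≃ₗ[A] M :=
      E0.trans ({
        toFun := fun z => e z.2
        map_add' := fun z w => map_add e z.2 w.2
        map_smul' := fun r z => map_smul e r z.2
        invFun := fun m => (0, e.symm m)
        left_inv := fun z => Prod.ext (Subsingleton.elim _ _) (e.symm_apply_apply z.2)
        right_inv := fun m => e.apply_symm_apply m } : ((koszulCx M fs).X 1 × (koszulCx M fs).X 0) ≃ₗ[A] M)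
    let ρ' : (mappingCone φ).X (-1) →ₗ[A] (Fin (fs.length + 1) → M) :=
      LinearMap.comp
        { toFun := fun z => Fin.cons (α := fun _ => M) (e z.1) (ρ z.2)
          map_add' := fun z w => by
            funext i
            refine Fin.cases ?_ (fun j => ?_) i
            · simp
            · simp
          map_smul' := fun r z => by
            funext i
            refine Fin.cases ?_ (fun j => ?_) i
            · simp
            · simp } E1.toLinearMap
    have he : ∀ p x, e' (cmk φ 0 1 (zero_add 1) p x) = e x := fun p x =>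
      congrArg (fun z => e (Prod.snd z)) (coneEquiv_cmk φ (zero_add 1) p x)
    have hr : ∀ p x, ρ' (cmk φ (-1) 0 (neg_add_cancel 1) p x) = Fin.cons (α := fun _ => M) (e p) (ρ x) :=
      fun p x => congrArg (fun z => Fin.cons (α := fun _ => M) (e (Prod.fst z)) (ρ (Prod.snd z)))
        (coneEquiv_cmk φ (neg_add_cancel 1) p x)
    have h1 : Function.Surjective ρ' := fun m => by
      obtain ⟨y, hy⟩ := hρ (Fin.tail (α := fun _ => M) m)
      refine ⟨cmk φ (-1) 0 (neg_add_cancel 1) (e.symm (m 0)) y, ?_⟩
      rw [hr, e.apply_symm_apply, hy]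
      exact Fin.cons_self_tail m
    have h2 : ∀ z, e' ((mappingCone φ).d (-1) 0 z) = ∑ i : Fin (fs.length + 1), (f :: fs)[i.1] • ρ' z i := fun z => by
      obtain ⟨p, x, rfl⟩ := exists_cmk φ (neg_add_cancel 1) z
      rw [d_cmk φ (neg_add_cancel 1) (zero_add 1), he, map_add, hd, show φ.f 0 p = f • p from rfl, map_smul, hr,
        Fin.sum_univ_succ]
      simp only [Fin.cons_zero, Fin.cons_succ]
      rfl
    have h3 : ∀ w, ρ' ((mappingCone φ).d (-2) (-1) w) ∈ trivM M fun i : Fin (fs.length + 1) => (f :: fs)[i.1] :=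
      fun w => by
      obtain ⟨q, y, rfl⟩ := exists_cmk φ (show (-2 : ℤ) + 1 = -1 by norm_num) w
      rw [d_cmk φ (show (-2 : ℤ) + 1 = -1 by norm_num) (neg_add_cancel 1), hr, map_neg, hd, map_add,
        show φ.f (-1) q = f • q from rfl, map_smul]
      have hsplit : (Fin.cons (α := fun _ => M) (-∑ i : Fin fs.length, fs[i.1] • ρ q i)
          (f • ρ q + ρ ((koszulCx M fs).d (-2) (-1) y)) : Fin (fs.length + 1) → M) =
        (∑ j : Fin fs.length, (Pi.single j.succ ((f :: fs)[(0 : Fin (fs.length + 1)).1] • ρ q j) -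
          Pi.single 0 ((f :: fs)[j.succ.1] • ρ q j) : Fin (fs.length + 1) → M)) +
          Fin.cons (α := fun _ => M) 0 (ρ ((koszulCx M fs).d (-2) (-1) y)) := by
        funext k
        rw [Pi.add_apply, Finset.sum_apply]
        refine Fin.cases ?_ (fun l => ?_) k
        · simp [(Fin.succ_ne_zero _).symm]
        · simp [Pi.single_apply]
      rw [hsplit]
      exact add_mem (Submodule.sum_mem _ fun j _ => Submodule.subset_span ⟨j.succ, 0, ρ q j, rfl⟩)
        (cons_zero_mem_triv M (hw y))
    exact ⟨e', ρ', h1, h2, h3⟩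

variable {M}

/-- A Koszul-regular sequence is `H₁`-regular. -/
theorem isH1Regular_of_koszul {fs : List A} (h : LCI.IsKoszulRegularSeq A fs) :
    CAlgX.IsH1Regular fun i : Fin fs.length => fs[i.1] := by
  intro a ha
  obtain ⟨e, ρ, hρ, hd, hw⟩ := exists_coordinates_triv (ModuleCat.of A A) fs
  obtain ⟨z, rfl⟩ := hρ a
  let K := koszulCx (ModuleCat.of A A) fs
  have hz : z ∈ Z K (-1) := by
    show K.d (-1) (-1 + 1) z = 0
    refine e.injective (((hd z).trans ?_).trans (map_zero e).symm)
    exact (Finset.sum_congr rfl fun i _ => mul_comm _ _).trans ha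
  haveI := ModuleCat.isZero_iff_subsingleton.1
    ((Groth.L07.KoszulPerm.isKoszulRegularSeq_iff fs).1 h (-1) (by norm_num))
  obtain ⟨w, hwz⟩ := (cl_eq_zero_iff K (show (-2 : ℤ) + 1 = -1 by norm_num) ⟨z, hz⟩).1 (Subsingleton.elim _ _)
  rw [show z = K.d (-2) (-1) w from hwz.symm]
  have hle : trivM (ModuleCat.of A A) (fun i : Fin fs.length => fs[i.1]) ≤
      Submodule.span A {v : Fin fs.length → A | ∃ i j : Fin fs.length, v = Pi.single i fs[j.1] - Pi.single j fs[i.1]} := by
    refine Submodule.span_le.mpr ?_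
    rintro _ ⟨i, j, m, rfl⟩
    have : (Pi.single i (fs[j.1] * m) - Pi.single j (fs[i.1] * m) : Fin fs.length → A) =
        m • (Pi.single i fs[j.1] - Pi.single j fs[i.1]) := by
      funext k
      simp [Pi.single_apply, mul_comm, mul_sub]
    exact this.symm ▸ Submodule.smul_mem _ _ (Submodule.subset_span ⟨i, j, rfl⟩)
  exact hle (hw w)

/-- If `J = I + (f)` and the image of `f` in `A / I` is `H₁`-regular then `I ∩ J² ⊆ I J`. -/
theorem mem_mul_of_h1Regular {B : Type u} [CommRing B] (q : A →+* B) (hq : Function.Surjective q)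
    (J : Ideal A) {c : ℕ} (f : Fin c → A) (hJ : J = RingHom.ker q ⊔ Ideal.span (Set.range f))
    (hf : CAlgX.IsH1Regular fun i => q (f i)) (x : A) (hx : x ∈ RingHom.ker q) (hx2 : x ∈ J * J) :
    x ∈ RingHom.ker q * J := by
  classical
  set I := RingHom.ker q with hI
  have hle : J * J ≤ I * J ⊔ Ideal.span (Set.range f) := by
    conv_lhs => arg 1; rw [hJ]
    rw [Ideal.sup_mul]
    exact sup_le_sup_left Ideal.mul_le_left _
  obtain ⟨y, hy, z, hz, rfl⟩ := Submodule.mem_sup.mp (hle hx2)
  obtain ⟨v, rfl⟩ := (Submodule.mem_span_range_iff_exists_fun A).mp hz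
  have hzI : ∑ i, v i • f i ∈ I := by
    have h1 := sub_mem hx (Ideal.mul_le_left hy : y ∈ I)
    rwa [add_sub_cancel_left] at h1
  refine add_mem hy ?_
  have hv := hf (fun i => q (v i)) (by
    rw [hI, RingHom.mem_ker, map_sum] at hzI
    simpa using hzI)
  have key : ∀ w ∈ Submodule.span B {v : Fin c → B | ∃ i j : Fin c,
      v = Pi.single i (q (f j)) - Pi.single j (q (f i))}, ∃ w' : Fin c → A,
      (∀ i, q (w' i) = w i) ∧ ∑ i, w' i * f i = 0 := by
    intro w hw
    induction hw using Submodule.span_induction with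
    | mem x hx =>
      obtain ⟨i, j, rfl⟩ := hx
      refine ⟨Pi.single i (f j) - Pi.single j (f i), fun k => ?_, ?_⟩
      · simp only [Pi.sub_apply, map_sub, Pi.single_apply, apply_ite q, map_zero]
      · simp only [Pi.sub_apply, sub_mul, Finset.sum_sub_distrib, Pi.single_apply, ite_mul, zero_mul,
          Finset.sum_ite_eq', Finset.mem_univ, if_true, mul_comm (f j), sub_self]
    | zero => exact ⟨0, by simp, by simp⟩
    | add x y _ _ hx hy =>
      obtain ⟨a, ha, ha'⟩ := hx
      obtain ⟨b, hb, hb'⟩ := hy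
      exact ⟨a + b, by simp [ha, hb], by simp [add_mul, Finset.sum_add_distrib, ha', hb']⟩
    | smul r x _ hx =>
      obtain ⟨a, ha, ha'⟩ := hx
      obtain ⟨r, rfl⟩ := hq r
      refine ⟨r • a, by simp [ha], ?_⟩
      simp only [Pi.smul_apply, smul_eq_mul, mul_assoc, ← Finset.mul_sum, ha', mul_zero]
  obtain ⟨w', hw', hw0⟩ := key _ hv
  have : ∑ i, v i • f i = ∑ i, (v i - w' i) * f i := by
    simp only [sub_mul, Finset.sum_sub_distrib, hw0, sub_zero, smul_eq_mul]
  rw [this]
  refine Submodule.sum_mem _ fun i _ => Ideal.mul_mem_mul ?_ ?_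
  · rw [hI, RingHom.mem_ker, map_sub, hw' i, sub_self]
  · rw [hJ]
    exact Ideal.mem_sup_right (Ideal.subset_span ⟨i, rfl⟩)

end Groth.L19.Thick
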