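import Groth.Agent.L00.Skyscraper
import Groth.Agent.L19.OmegaSh.Conormal
import Groth.Prelude.Def_Omega4

/-!
# Generators of the stalks of pulled back conormal sheaves
-/

set_option autoImplicit false
set_option linter.style.haveILetI false
set_option backward.isDefEq.respectTransparency.types false
set_option backward.isDefEq.respectTransparency false

universe u

open CategoryTheory CategoryTheory.Limits AlgebraicGeometry TopologicalSpace Opposite

noncomputable section

namespace Groth.L19.Thick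

open Groth.L18.Frame (rs ro rs_rs ro_ro rs_smul ro_self rs_self)
open _root_.OmegaSh (idealSect pullSect conormalSect pullSect_smul pullSect_map)
open Groth.L00.Tensor (pre)
open Groth.L00.StalkTensor (germ germ_smul' germ_rs)
open Groth.L19.OmegaSh (idl idealSect_rs idealSect_smul idealSect_injective exists_idealSect conormalSect_rs
  conormalSect_smul app_idealSect conormal_hom_ext)

variable {Z Y Y' : Scheme.{u}} (i : Z ⟶ Y) (j : Y ⟶ Y') (z : Z)

/-- the germ of a pulled back conormal class -/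
def gen (W : Y'.Opens) (hW : z ∈ i ⁻¹ᵁ (j ⁻¹ᵁ W)) (s : Γ(idl j, W)) :
    (Groth.L00.Stk.F Z z).obj ((Scheme.Modules.pullback i).obj (Omega.conormal j)) :=
  germ (pre ((Scheme.Modules.pullback i).obj (Omega.conormal j))) z hW
    (pullSect i (Omega.conormal j) (j ⁻¹ᵁ W) (conormalSect j W s))

variable {i j z}

theorem gen_zero {W : Y'.Opens} (hW : z ∈ i ⁻¹ᵁ (j ⁻¹ᵁ W)) : gen i j z W hW 0 = 0 := by
  unfold gen
  rw [map_zero, map_zero]
  exact map_zero _

theorem gen_add {W : Y'.Opens} (hW : z ∈ i ⁻¹ᵁ (j ⁻¹ᵁ W)) (s t : Γ(idl j, W)) :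
    gen i j z W hW (s + t) = gen i j z W hW s + gen i j z W hW t := by
  unfold gen
  rw [map_add (conormalSect j W).hom, map_add (pullSect i (Omega.conormal j) (j ⁻¹ᵁ W)).hom]
  exact map_add _ _ _

theorem gen_smul {W : Y'.Opens} (hW : z ∈ i ⁻¹ᵁ (j ⁻¹ᵁ W)) (r : Γ(Y', W)) (s : Γ(idl j, W)) :
    gen i j z W hW (r • s) =
      (Z.presheaf.germ (i ⁻¹ᵁ (j ⁻¹ᵁ W)) z hW (i.app _ (j.app W r)) : Z.presheaf.stalk z) •
        gen i j z W hW s := by
  unfold gen
  rw [conormalSect_smul, pullSect_smul]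
  exact germ_smul' _ _ _ _ _

theorem gen_rs {W W' : Y'.Opens} (h : W' ≤ W) (hW' : z ∈ i ⁻¹ᵁ (j ⁻¹ᵁ W')) (s : Γ(idl j, W)) :
    gen i j z W' hW' (rs (idl j) h s) =
      gen i j z W (i.preimage_mono (j.preimage_mono h) hW') s := by
  unfold gen
  rw [conormalSect_rs]
  refine Eq.trans (congrArg _ (pullSect_map i (Omega.conormal j) (j.preimage_mono h) _)) ?_
  exact germ_rs _ z (homOfLE (i.preimage_mono (j.preimage_mono h))) hW' _

/-- Germs of classes over one affine open span the stalk. -/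
theorem span_gen_eq_top [QuasiCompact j] (U' : Y'.affineOpens) (hU' : z ∈ i ⁻¹ᵁ (j ⁻¹ᵁ U'.1)) :
    Submodule.span (Z.presheaf.stalk z) (Set.range (gen i j z U'.1 hU')) = ⊤ := by
  let M := (Scheme.Modules.pullback i).obj (Omega.conormal j)
  let P : Submodule (Z.presheaf.stalk z) ((Groth.L00.Stk.F Z z).obj M) :=
    Submodule.span (Z.presheaf.stalk z) (Set.range (gen i j z U'.1 hU'))
  let φ : (Groth.L00.Stk.F Z z).obj M ⟶ ModuleCat.of _ ((Groth.L00.Stk.F Z z).obj M ⧸ P) :=
    ModuleCat.ofHom P.mkQ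
  have key : ∀ (W : Y'.Opens) (hW : z ∈ i ⁻¹ᵁ (j ⁻¹ᵁ W)) (s : Γ(idl j, W)), gen i j z W hW s ∈ P := by
    intro W hW s
    obtain ⟨_, ⟨D, hD, rfl⟩, hzD, hDle⟩ :=
      Y'.isBasis_affineOpens.exists_subset_of_mem_open (show j (i z) ∈ W ⊓ U'.1 from ⟨hW, hU'⟩) (W ⊓ U'.1).2
    have h₁ : D ≤ W := fun x hx => (hDle hx).1
    have h₂ : D ≤ U'.1 := fun x hx => (hDle hx).2
    have hzD' : z ∈ i ⁻¹ᵁ (j ⁻¹ᵁ D) := hzD
    rw [← gen_rs h₁ hzD' s]
    have hmem : idealSect j.ker D (rs (idl j) h₁ s) ∈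
        (j.ker.ideal U').map (Y'.presheaf.map (homOfLE h₂).op).hom := by
      erw [Scheme.IdealSheafData.map_ideal j.ker (U := ⟨D, hD⟩) (V := U') h₂]
      rw [Scheme.Hom.ker_apply, RingHom.mem_ker]
      exact app_idealSect j D _
    suffices hall : ∀ a ∈ (j.ker.ideal U').map (Y'.presheaf.map (homOfLE h₂).op).hom,
        ∃ t : Γ(idl j, D), idealSect j.ker D t = a ∧ gen i j z D hzD' t ∈ P by
      obtain ⟨t, ht, htP⟩ := hall _ hmem
      rwa [← idealSect_injective (i := j) D ht]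
    intro a ha
    induction ha using Submodule.span_induction with
    | mem a ha =>
      obtain ⟨x, hx, rfl⟩ := ha
      rw [SetLike.mem_coe, Scheme.Hom.ker_apply, RingHom.mem_ker] at hx
      obtain ⟨u, hu⟩ := exists_idealSect j U'.1 x hx
      refine ⟨rs (idl j) h₂ u, by rw [idealSect_rs, hu], ?_⟩
      rw [gen_rs h₂ hzD' u]
      exact Submodule.subset_span ⟨u, rfl⟩
    | zero => exact ⟨0, map_zero _, by rw [gen_zero]; exact zero_mem _⟩
    | add a a' _ _ ha ha' =>
      obtain ⟨t, ht, ht'⟩ := ha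
      obtain ⟨u, hu, hu'⟩ := ha'
      exact ⟨t + u, by rw [map_add, ht, hu], by rw [gen_add]; exact add_mem ht' hu'⟩
    | smul r a _ ha =>
      obtain ⟨t, ht, ht'⟩ := ha
      exact ⟨r • t, by rw [idealSect_smul, ht]; rfl, by rw [gen_smul]; exact Submodule.smul_mem _ _ ht'⟩
  have hψ : Groth.L00.Sky.toHom M _ φ = 0 := by
    apply ((Scheme.Modules.pullbackPushforwardAdjunction i).homEquiv _ _).injective
    refine conormal_hom_ext (i := j) fun W s => ?_
    rw [Adjunction.homEquiv_unit, Adjunction.homEquiv_unit, Functor.map_zero, comp_zero]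
    refine Groth.L00.Sky.sec_ext fun hz => ?_
    exact (Submodule.Quotient.mk_eq_zero P).mpr (key W hz s)
  refine eq_top_iff.mpr fun p _ => ?_
  obtain ⟨O, hO, m, rfl⟩ := Groth.L00.StalkTensor.exists_germ (pre M) z p
  refine (Submodule.Quotient.mk_eq_zero P).mp ?_
  have h1 := congrArg (fun ψ : M ⟶ _ => (ψ.app O m : Groth.L00.Sky.Sec z _ O) ⟨hO⟩) hψ
  exact h1

/-- Every stalk element is a combination of generators with coefficients on one neighbourhood. -/
theorem exists_rep [QuasiCompact j] (U' : Y'.affineOpens) (hU' : z ∈ i ⁻¹ᵁ (j ⁻¹ᵁ U'.1))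
    (p : (Groth.L00.Stk.F Z z).obj ((Scheme.Modules.pullback i).obj (Omega.conormal j))) :
    ∃ (W : Z.Opens) (hW : z ∈ W) (N : ℕ) (a : Fin N → Γ(Z, W)) (u : Fin N → Γ(idl j, U'.1)),
      p = ∑ k, (Z.presheaf.germ W z hW (a k) : Z.presheaf.stalk z) • gen i j z U'.1 hU' (u k) := by
  have hp : p ∈ Submodule.span (Z.presheaf.stalk z) (Set.range (gen i j z U'.1 hU')) := by
    rw [span_gen_eq_top U' hU']
    exact Submodule.mem_top
  induction hp using Submodule.span_induction with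
  | mem p hp =>
    obtain ⟨u, rfl⟩ := hp
    exact ⟨⊤, trivial, 1, fun _ => 1, fun _ => u, by simp⟩
  | zero => exact ⟨⊤, trivial, 0, Fin.elim0, Fin.elim0, by simp⟩
  | add p p' _ _ hp hp' =>
    obtain ⟨W, hW, N, a, u, rfl⟩ := hp
    obtain ⟨W', hW', N', a', u', rfl⟩ := hp'
    refine ⟨W ⊓ W', ⟨hW, hW'⟩, N + N', Fin.append (fun k => ro inf_le_left (a k)) (fun k => ro inf_le_right (a' k)),
      Fin.append u u', ?_⟩
    rw [Fin.sum_univ_add]
    refine congrArg₂ (· + ·) (Finset.sum_congr rfl fun k _ => ?_) (Finset.sum_congr rfl fun k _ => ?_)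
    · rw [Fin.append_left, Fin.append_left]
      exact congrArg (fun r : Z.presheaf.stalk z => r • gen i j z U'.1 hU' (u k))
        (TopCat.Presheaf.germ_res_apply Z.presheaf (homOfLE inf_le_left) z _ (a k)).symm
    · rw [Fin.append_right, Fin.append_right]
      exact congrArg (fun r : Z.presheaf.stalk z => r • gen i j z U'.1 hU' (u' k))
        (TopCat.Presheaf.germ_res_apply Z.presheaf (homOfLE inf_le_right) z _ (a' k)).symm
  | smul r p _ hp =>
    obtain ⟨W, hW, N, a, u, rfl⟩ := hp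
    obtain ⟨W', hW', r', rfl⟩ := TopCat.Presheaf.exists_germ_eq (F := Z.presheaf) (x := z) r
    refine ⟨W ⊓ W', ⟨hW, hW'⟩, N, fun k => ro inf_le_right r' * ro inf_le_left (a k), u, ?_⟩
    rw [Finset.smul_sum]
    refine Finset.sum_congr rfl fun k _ => ?_
    rw [map_mul, smul_smul]
    exact congrArg (fun x : Z.presheaf.stalk z => x • gen i j z U'.1 hU' (u k)) (congrArg₂ (· * ·)
      (TopCat.Presheaf.germ_res_apply Z.presheaf (homOfLE inf_le_right) z ⟨hW, hW'⟩ r').symm
      (TopCat.Presheaf.germ_res_apply Z.presheaf (homOfLE inf_le_left) z ⟨hW, hW'⟩ (a k)).symm)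

end Groth.L19.Thick
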