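import Groth.Prelude.Def_Omega3
import Mathlib.Algebra.MvPolynomial.Derivation
import Mathlib.RingTheory.Kaehler.Basic
import Mathlib.RingTheory.Unramified.Basic
import Mathlib.Algebra.TrivSqZeroExt.Basic

/-!
# Universal first order thickenings of formally unramified algebras
-/

universe u

open MvPolynomial

namespace Groth.L19.Thick

variable {R S A : Type u} [CommRing R] [CommRing S] [Algebra R S] [CommRing A] [Algebra R A]

variable (R S) in
/-- The presentation by all elements. -/
noncomputable def π₀ : MvPolynomial S R →ₐ[R] S := MvPolynomial.aeval id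

theorem π₀_X (c : S) : π₀ R S (X c) = c := aeval_X _ _

theorem π₀_surjective : Function.Surjective (π₀ R S) := fun c => ⟨X c, π₀_X c⟩

theorem exists_derivation : ∃ D : MvPolynomial S R →ₗ[R] (S →₀ S),
    (∀ c, D (X c) = Finsupp.single c 1) ∧ (∀ r, D (C r) = 0) ∧
      ∀ p q, D (p * q) = π₀ R S p • D q + π₀ R S q • D p := by
  letI : Algebra (MvPolynomial S R) S := (π₀ R S).toRingHom.toAlgebra
  haveI : IsScalarTower R (MvPolynomial S R) S := IsScalarTower.of_algHom (π₀ R S)
  let D : Derivation R (MvPolynomial S R) (S →₀ S) := mkDerivation R fun c => Finsupp.single c 1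
  refine ⟨D.toLinearMap, fun c => mkDerivation_X _ _ _, fun r => derivation_C _ r, fun p q => ?_⟩
  show D (p * q) = _
  rw [D.leibniz]
  rfl

theorem exists_gens [Algebra.FormallyUnramified R S] {D : MvPolynomial S R →ₗ[R] (S →₀ S)}
    (hX : ∀ c, D (X c) = Finsupp.single c 1)
    (hD : ∀ p q, D (p * q) = π₀ R S p • D q + π₀ R S q • D p) (c : S) :
    ∃ f, π₀ R S f = 0 ∧ D f = Finsupp.single c 1 := by
  let N : Submodule S (S →₀ S) :=
    { carrier := {m | ∃ f, π₀ R S f = 0 ∧ D f = m}
      zero_mem' := ⟨0, map_zero _, map_zero _⟩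
      add_mem' := by
        rintro _ _ ⟨f, hf, rfl⟩ ⟨g, hg, rfl⟩
        exact ⟨f + g, by rw [map_add, hf, hg, add_zero], map_add _ _ _⟩
      smul_mem' := by
        rintro s _ ⟨f, hf, rfl⟩
        exact ⟨X s * f, by rw [map_mul, hf, mul_zero], by rw [hD, hf, zero_smul, add_zero, π₀_X]⟩ }
  have hJ : ∀ f, π₀ R S f = 0 → N.mkQ (D f) = 0 := fun f hf =>
    (Submodule.Quotient.mk_eq_zero N).mpr ⟨f, hf, rfl⟩
  have hwd : ∀ f g, π₀ R S f = π₀ R S g → N.mkQ (D f) = N.mkQ (D g) := fun f g h => by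
    rw [← sub_eq_zero, ← map_sub, ← map_sub]; exact hJ _ (by rw [map_sub, h, sub_self])
  let δ : Derivation R S ((S →₀ S) ⧸ N) :=
    Derivation.mk'
      { toFun := fun s => N.mkQ (D (X s))
        map_add' := fun s t => by
          rw [← map_add, ← map_add]; exact hwd _ _ (by simp [π₀_X])
        map_smul' := fun r s => by
          rw [RingHom.id_apply, ← LinearMap.map_smul_of_tower, ← D.map_smul]
          exact hwd _ _ (by simp [π₀_X]) }
      (fun s t => by
        show N.mkQ (D (X (s * t))) = s • N.mkQ (D (X t)) + t • N.mkQ (D (X s))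
        have e : D (X s * X t) = s • D (X t) + t • D (X s) := by rw [hD, π₀_X, π₀_X]
        rw [← N.mkQ.map_smul, ← N.mkQ.map_smul, ← N.mkQ.map_add, ← e]
        exact hwd _ _ (by simp [π₀_X]))
  have hδ : δ c = 0 := by
    rw [← δ.liftKaehlerDifferential_comp_D, Subsingleton.elim (KaehlerDifferential.D R S c) 0,
      map_zero]
  have : Finsupp.single c 1 ∈ N := by
    rw [← hX, ← Submodule.Quotient.mk_eq_zero N]; exact hδ
  exact this

theorem mul_eq_zero_of_sq {I : Ideal A} (hI : I ^ 2 = ⊥) {a b : A} (ha : a ∈ I) (hb : b ∈ I) :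
    a * b = 0 := by
  have := Ideal.mul_mem_mul ha hb
  rwa [← pow_two, hI, Ideal.mem_bot] at this

/-- The Taylor formula for two polynomial substitutions congruent modulo a square-zero ideal. -/
theorem aeval_eq {D : MvPolynomial S R →ₗ[R] (S →₀ S)} (hX : ∀ c, D (X c) = Finsupp.single c 1)
    (hC : ∀ r, D (C r) = 0) (hD : ∀ p q, D (p * q) = π₀ R S p • D q + π₀ R S q • D p)
    {I : Ideal A} (hI : I ^ 2 = ⊥) (a : S →ₐ[R] A ⧸ I) (g : S → A)
    (hg : ∀ c, Ideal.Quotient.mk I (g c) = a c) (δ : S → A) (hδ : ∀ c, δ c ∈ I)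
    (p : MvPolynomial S R) :
    aeval (fun c => g c + δ c) p = aeval g p + (D p).sum fun k c => g c * δ k := by
  have hz : ∀ k, g 0 * δ k = 0 := fun k => mul_eq_zero_of_sq hI
    (Ideal.Quotient.eq_zero_iff_mem.mp (by rw [hg, map_zero])) (hδ k)
  have hadd : ∀ k x y, g (x + y) * δ k = g x * δ k + g y * δ k := fun k x y => by
    rw [← sub_eq_zero, ← add_mul, ← sub_mul]
    exact mul_eq_zero_of_sq hI (Ideal.Quotient.eq_zero_iff_mem.mp (by simp [hg])) (hδ k)
  have hmod : ∀ p, Ideal.Quotient.mk I (aeval g p) = a (π₀ R S p) := fun p => by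
    have : (Ideal.Quotient.mkₐ R I).comp (aeval g) = a.comp (π₀ R S) :=
      algHom_ext fun c => by simp [hg, π₀_X]
    exact DFunLike.congr_fun this p
  induction p using MvPolynomial.induction_on with
  | C r => simp [hC, algebraMap_eq]
  | add p q hp hq =>
    rw [map_add, map_add, map_add, hp, hq, Finsupp.sum_add_index' hz hadd]; ring
  | mul_X p n hp =>
    have hgs : ∀ s k x, g (s * x) * δ k = g s * (g x * δ k) := fun s k x => by
      rw [← sub_eq_zero, ← mul_assoc, ← sub_mul]
      exact mul_eq_zero_of_sq hI (Ideal.Quotient.eq_zero_iff_mem.mp (by simp [hg])) (hδ k)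
    have hsum : ∀ (s : S) (m : S →₀ S),
        (s • m).sum (fun k c => g c * δ k) = g s * m.sum fun k c => g c * δ k := fun s m => by
      rw [Finsupp.sum_smul_index' hz, Finsupp.mul_sum]
      exact Finsupp.sum_congr fun k _ => hgs s k _
    have hmem : (D p).sum (fun k c => g c * δ k) ∈ I :=
      Ideal.sum_mem _ fun k _ => Ideal.mul_mem_left _ _ (hδ k)
    have h1 : aeval g p * δ n = g (π₀ R S p) * (g 1 * δ n) := by
      rw [← hgs, mul_one, ← sub_eq_zero, ← sub_mul]
      exact mul_eq_zero_of_sq hI (Ideal.Quotient.eq_zero_iff_mem.mp (by simp [hg, hmod])) (hδ n)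
    rw [map_mul, map_mul, hD, hX, π₀_X, Finsupp.sum_add_index' hz hadd, hsum, hsum,
      Finsupp.sum_single_index (hz n), hp, aeval_X, aeval_X, add_mul, mul_add, mul_add, h1,
      mul_eq_zero_of_sq hI hmem (hδ n)]
    ring

theorem exists_univ [Algebra.FormallyUnramified R S] :
    ∃ (S' : Type u) (_ : CommRing S') (_ : Algebra R S') (π : S' →ₐ[R] S),
      OmegaSh.IsUnivThickeningRing R S S' π := by
  obtain ⟨D, hX, hC, hD⟩ := exists_derivation (R := R) (S := S)
  choose f hf hDf using exists_gens hX hD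
  let J : Ideal (MvPolynomial S R) := RingHom.ker (π₀ R S).toRingHom
  let J' : Ideal (MvPolynomial S R) := J ^ 2 ⊔ Ideal.span (Set.range f)
  have hJ' : J' ≤ J := sup_le (Ideal.pow_le_self two_ne_zero)
    (Ideal.span_le.mpr (by rintro _ ⟨c, rfl⟩; exact hf c))
  let π : MvPolynomial S R ⧸ J' →ₐ[R] S := Ideal.Quotient.liftₐ J' (π₀ R S) fun x hx => hJ' hx
  have hπ : ∀ p, π (Ideal.Quotient.mk J' p) = π₀ R S p := fun p => rfl
  refine ⟨_, inferInstance, inferInstance, π, fun c => ⟨Ideal.Quotient.mk J' (X c), π₀_X c⟩, ?_, ?_⟩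
  · rw [eq_bot_iff, pow_two, Ideal.mul_le]
    intro x hx y hy
    obtain ⟨p, rfl⟩ := Ideal.Quotient.mk_surjective x
    obtain ⟨q, rfl⟩ := Ideal.Quotient.mk_surjective y
    rw [Ideal.mem_bot, ← map_mul, Ideal.Quotient.eq_zero_iff_mem]
    refine Ideal.mem_sup_left ?_
    rw [pow_two]
    exact Ideal.mul_mem_mul (show π₀ R S p = 0 from hx) (show π₀ R S q = 0 from hy)
  intro A _ _ I hI a
  choose g hg using fun c => Ideal.Quotient.mk_surjective (a c)
  have hmod : ∀ (h : S → A), (∀ c, Ideal.Quotient.mk I (h c) = a c) → ∀ p,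
      Ideal.Quotient.mk I (aeval h p) = a (π₀ R S p) := fun h hh p => by
    have : (Ideal.Quotient.mkₐ R I).comp (aeval h) = a.comp (π₀ R S) :=
      algHom_ext fun c => by simp [hh, π₀_X]
    exact DFunLike.congr_fun this p
  have hfI : ∀ c, aeval g (f c) ∈ I := fun c =>
    Ideal.Quotient.eq_zero_iff_mem.mp (by rw [hmod g hg, hf, map_zero])
  have hsum : ∀ (h : S → A), (∀ c, Ideal.Quotient.mk I (h c) = a c) → ∀ (δ : S → A),
      (∀ c, δ c ∈ I) → ∀ c, aeval (fun c => h c + δ c) (f c) = aeval h (f c) + δ c := by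
    intro h hh δ hδ c
    have hz : ∀ k, h 0 * δ k = 0 := fun k => mul_eq_zero_of_sq hI
      (Ideal.Quotient.eq_zero_iff_mem.mp (by rw [hh, map_zero])) (hδ k)
    rw [aeval_eq hX hC hD hI a h hh δ hδ, hDf, Finsupp.sum_single_index (hz c)]
    congr 1
    rw [← sub_eq_zero, show h 1 * δ c - δ c = (h 1 - 1) * δ c by ring]
    exact mul_eq_zero_of_sq hI (Ideal.Quotient.eq_zero_iff_mem.mp (by simp [hh])) (hδ c)
  let δ : S → A := fun c => -aeval g (f c)
  let ψ : MvPolynomial S R →ₐ[R] A := aeval fun c => g c + δ c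
  have hψmod : ∀ p, Ideal.Quotient.mk I (ψ p) = a (π₀ R S p) :=
    hmod _ fun c => by simp [δ, hg, Ideal.Quotient.eq_zero_iff_mem.mpr (hfI c)]
  have hψ : J' ≤ RingHom.ker ψ := by
    refine sup_le ?_ (Ideal.span_le.mpr ?_)
    · rw [pow_two, Ideal.mul_le]
      intro x hx y hy
      rw [RingHom.mem_ker, map_mul]
      exact mul_eq_zero_of_sq hI
        (Ideal.Quotient.eq_zero_iff_mem.mp (by rw [hψmod, show π₀ R S x = 0 from hx, map_zero]))
        (Ideal.Quotient.eq_zero_iff_mem.mp (by rw [hψmod, show π₀ R S y = 0 from hy, map_zero]))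
    · rintro _ ⟨c, rfl⟩
      show ψ (f c) = 0
      exact (hsum g hg δ (fun c => I.neg_mem (hfI c)) c).trans (add_neg_cancel _)
  refine ⟨Ideal.Quotient.liftₐ J' ψ fun x hx => hψ hx, AlgHom.ext fun x => ?_, fun a' ha' => ?_⟩
  · obtain ⟨p, rfl⟩ := Ideal.Quotient.mk_surjective x
    exact hψmod p
  let φ := a'.comp (Ideal.Quotient.mkₐ R J')
  have hφ : ∀ c, Ideal.Quotient.mk I (φ (X c)) = a c := fun c => by
    have := DFunLike.congr_fun ha' (Ideal.Quotient.mk J' (X c))
    rwa [AlgHom.comp_apply, AlgHom.comp_apply, hπ, π₀_X] at this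
  let g' : S → A := fun c => g c + δ c
  have hg' : ∀ c, Ideal.Quotient.mk I (g' c) = a c := fun c => by
    simpa [g', ψ, π₀_X] using hψmod (X c)
  let ε : S → A := fun c => φ (X c) - g' c
  have hε : ∀ c, ε c ∈ I := fun c => Ideal.Quotient.eq.mp ((hφ c).trans (hg' c).symm)
  have hε0 : ∀ c, ε c = 0 := by
    intro c
    have e : φ = aeval fun c => g' c + ε c := algHom_ext fun c => by simp [ε]
    have h1 := hsum g' hg' ε hε c
    rw [← e, show aeval g' (f c) = 0 from hψ (Ideal.mem_sup_right (Ideal.subset_span ⟨c, rfl⟩)),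
      zero_add] at h1
    rw [← h1]
    show a' (Ideal.Quotient.mk J' (f c)) = 0
    rw [Ideal.Quotient.eq_zero_iff_mem.mpr
      (Ideal.mem_sup_right (Ideal.subset_span (Set.mem_range_self c)) : f c ∈ J'),
      map_zero]
  refine AlgHom.ext fun x => ?_
  obtain ⟨p, rfl⟩ := Ideal.Quotient.mk_surjective x
  show φ p = ψ p
  exact DFunLike.congr_fun (algHom_ext fun c => by
    simpa [ψ, g', sub_eq_zero, ε] using hε0 c : φ = ψ) p

variable {B B' : Type u} [CommRing B] [Algebra R B] [CommRing B'] [Algebra R B']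
  {π : B' →ₐ[R] B}

theorem derivation_eq_zero (hπ : OmegaSh.IsUnivThickeningRing R B B' π)
    {M : Type u} [AddCommGroup M] [Module B M] (d : B' → M)
    (hadd : ∀ x y, d (x + y) = d x + d y) (hR : ∀ r, d (algebraMap R B' r) = 0)
    (hmul : ∀ x y, d (x * y) = π x • d y + π y • d x) : ∀ x, d x = 0 := by
  letI : Module Bᵐᵒᵖ M := Module.compHom _ ((RingHom.id B).fromOpposite mul_comm)
  haveI : IsCentralScalar B M := ⟨fun _ _ => rfl⟩
  letI : Module R M := Module.compHom M (algebraMap R B)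
  haveI : IsScalarTower R B M := ⟨fun r b m => by
    show (r • b) • m = algebraMap R B r • b • m
    rw [Algebra.smul_def, mul_smul]⟩
  haveI : IsScalarTower R Bᵐᵒᵖ M := ⟨fun r b m => by
    show (r • b.unop) • m = algebraMap R B r • b.unop • m
    rw [Algebra.smul_def, mul_smul]⟩
  let I : Ideal (TrivSqZeroExt B M) := RingHom.ker (TrivSqZeroExt.fstHom B B M).toRingHom
  have hI : I ^ 2 = ⊥ := by
    rw [eq_bot_iff, pow_two, Ideal.mul_le]
    intro x hx y hy
    rw [RingHom.mem_ker] at hx hy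
    have hx' : x.fst = 0 := hx
    have hy' : y.fst = 0 := hy
    exact TrivSqZeroExt.ext (by simp [hx']) (by simp [hx', hy'])
  let toE : B →ₐ[R] (TrivSqZeroExt B M) ⧸ I := (Ideal.Quotient.mkₐ R I).comp
    { toRingHom := TrivSqZeroExt.inlHom B M
      commutes' := fun r => rfl }
  obtain ⟨-, -, huniv⟩ := hπ
  obtain ⟨w, -, hw⟩ := huniv (TrivSqZeroExt B M) I hI toE
  let l₀ : B' →ₐ[R] (TrivSqZeroExt B M) :=
    { toFun := fun x => TrivSqZeroExt.inl (π x)
      map_one' := by simp
      map_mul' := fun x y => by simp [TrivSqZeroExt.inl_mul]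
      map_zero' := by simp
      map_add' := fun x y => by simp
      commutes' := fun r => by simp [TrivSqZeroExt.algebraMap_eq_inl'] }
  let l₁ : B' →ₐ[R] (TrivSqZeroExt B M) :=
    { toFun := fun x => TrivSqZeroExt.inl (π x) + TrivSqZeroExt.inr (d x)
      map_one' := by
        have : d 1 = 0 := by rw [← map_one (algebraMap R B'), hR]
        simp [this]
      map_mul' := fun x y => by
        refine TrivSqZeroExt.ext (by simp) ?_
        simp [hmul, op_smul_eq_smul]
      map_zero' := by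
        have : d 0 = 0 := by rw [← map_zero (algebraMap R B'), hR]
        simp [this]
      map_add' := fun x y => by
        refine TrivSqZeroExt.ext (by simp) (by simp [hadd])
      commutes' := fun r => by simp [hR, TrivSqZeroExt.algebraMap_eq_inl'] }
  have h0 : l₀ = w := hw l₀ (AlgHom.ext fun x => rfl)
  have h1 : l₁ = w := hw l₁ (AlgHom.ext fun x => by
    refine (Ideal.Quotient.eq).mpr ?_
    rw [RingHom.mem_ker]
    show (l₁ x - TrivSqZeroExt.inl (π x)).fst = 0
    simp [l₁])
  intro x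
  have := congrArg TrivSqZeroExt.snd (DFunLike.congr_fun (h1.trans h0.symm) x)
  simpa [l₀, l₁] using this

theorem formallyUnramified (hπ : OmegaSh.IsUnivThickeningRing R B B' π) :
    Algebra.FormallyUnramified R B' := by
  letI := π.toRingHom.toAlgebra
  haveI : IsScalarTower R B' B := IsScalarTower.of_algHom π
  let K : Ideal B' := RingHom.ker π.toRingHom
  let Ω := Ω[B'⁄R]
  have key : (K • (⊤ : Submodule B' Ω)) = ⊤ := by
    refine eq_top_iff.mpr ((KaehlerDifferential.span_range_derivation R B').ge.trans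
      (Submodule.span_le.mpr ?_))
    rintro _ ⟨x, rfl⟩
    have htb : Module.IsTorsionBySet B' (Ω ⧸ (K • (⊤ : Submodule B' Ω))) K := fun m a => by
      obtain ⟨m, rfl⟩ := Submodule.Quotient.mk_surjective _ m
      rw [← Submodule.Quotient.mk_smul, Submodule.Quotient.mk_eq_zero]
      exact Submodule.smul_mem_smul a.2 trivial
    letI : Module (B' ⧸ K) (Ω ⧸ (K • (⊤ : Submodule B' Ω))) := htb.module
    let e : B' ⧸ K ≃+* B := RingHom.quotientKerEquivOfSurjective (f := π.toRingHom) hπ.1
    letI : Module B (Ω ⧸ (K • (⊤ : Submodule B' Ω))) := Module.compHom _ e.symm.toRingHom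
    have hsmul : ∀ (x : B') (m : Ω ⧸ (K • (⊤ : Submodule B' Ω))), π x • m = x • m := by
      intro x m
      show e.symm (π x) • m = x • m
      rw [show e.symm (π x) = Ideal.Quotient.mk K x from e.symm_apply_eq.mpr rfl]
      rfl
    refine (Submodule.Quotient.mk_eq_zero _).mp
      (derivation_eq_zero hπ (fun x => Submodule.Quotient.mk (KaehlerDifferential.D R B' x))
        (fun x y => by simp) (fun r => by simp) (fun x y => ?_) x)
    rw [hsmul, hsmul, Derivation.leibniz, Submodule.Quotient.mk_add, Submodule.Quotient.mk_smul,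
      Submodule.Quotient.mk_smul]
  have : (⊤ : Submodule B' Ω) = ⊥ := by
    rw [← key]; nth_rewrite 1 [← key]
    rw [← Submodule.smul_assoc, smul_eq_mul, ← pow_two, hπ.2.1, Submodule.bot_smul]
  exact ⟨⟨fun a b => by
    have ha : a ∈ (⊤ : Submodule B' Ω) := trivial
    have hb : b ∈ (⊤ : Submodule B' Ω) := trivial
    rw [this, Submodule.mem_bot] at ha hb
    rw [ha, hb]⟩⟩

end Groth.L19.Thick
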