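import Groth.Agent.L19.Thick.Basic
import Groth.Agent.L19.Thick.Ring
import Mathlib.AlgebraicGeometry.AffineScheme

/-!
# Universal first order thickenings of affine schemes
-/

set_option backward.isDefEq.respectTransparency.types false
set_option backward.isDefEq.respectTransparency false

universe u

open CategoryTheory CategoryTheory.Limits AlgebraicGeometry TopologicalSpace

namespace Groth.L19.Thick

/-- The ring map of a morphism to an affine scheme. -/
noncomputable def γ {T : Scheme.{u}} {R : CommRingCat.{u}} (f : T ⟶ Spec R) : R ⟶ Γ(T, ⊤) :=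
  (Scheme.ΓSpecIso R).inv ≫ f.appTop

theorem γ_injective {T : Scheme.{u}} {R : CommRingCat.{u}} {f g : T ⟶ Spec R} (h : γ f = γ g) :
    f = g := by
  apply ext_of_isAffine
  rw [← cancel_epi (Scheme.ΓSpecIso R).inv]
  exact h

theorem γ_comp {T U : Scheme.{u}} {R : CommRingCat.{u}} (p : U ⟶ T) (f : T ⟶ Spec R) :
    γ (p ≫ f) = γ f ≫ p.appTop := by
  simp [γ, Scheme.Hom.comp_appTop]

theorem γ_map {T : Scheme.{u}} {R R' : CommRingCat.{u}} (f : T ⟶ Spec R) (φ : R' ⟶ R) :
    γ (f ≫ Spec.map φ) = φ ≫ γ f := by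
  simp only [γ, Scheme.Hom.comp_appTop]
  rw [← Category.assoc, ← Scheme.ΓSpecIso_inv_naturality φ, Category.assoc]

theorem γ_mk {T : Scheme.{u}} {R : CommRingCat.{u}} (g : R ⟶ Γ(T, ⊤)) :
    γ (T.toSpecΓ ≫ Spec.map g) = g := by
  rw [γ_map, γ, Scheme.toSpecΓ_appTop, Iso.inv_hom_id, Category.comp_id]

/-- The test objects of ring theoretic universality inside the scheme theoretic ones. -/
theorem isFirstOrder_specMap {A C : CommRingCat.{u}} (q : A ⟶ C) (hq : Function.Surjective q)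
    (hsq : RingHom.ker q.hom ^ 2 = ⊥) : MoreMor.IsFirstOrderThickening (Spec.map q) := by
  have : IsClosedImmersion (Spec.map q) := IsClosedImmersion.spec_of_surjective _ hq
  have : Surjective (Spec.map q) := ⟨fun x => by
    have hx : RingHom.ker q.hom ≤ x.asIdeal := by
      refine fun r hr => x.isPrime.mem_of_pow_mem 2 ?_
      rw [pow_two, mul_eq_zero_of_sq hsq hr hr]
      exact Submodule.zero_mem _
    have : x ∈ Set.range (PrimeSpectrum.comap q.hom) := by
      rw [range_comap_of_surjective _ _ hq]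
      exact hx
    exact this⟩
  refine mk_firstOrder (Scheme.IdealSheafData.ext_of_isAffine ?_)
  rw [Scheme.IdealSheafData.ideal_mul, Pi.mul_apply, Scheme.IdealSheafData.ideal_bot, Pi.bot_apply,
    Scheme.Hom.ker_apply, eq_bot_iff, Ideal.mul_le]
  intro a ha b hb
  rw [RingHom.mem_ker] at ha hb
  have key : ∀ a : Γ(Spec A, ⊤), ((Spec.map q).app ⊤).hom a = 0 →
      (Scheme.ΓSpecIso A).hom.hom a ∈ RingHom.ker q.hom := fun a ha => by
    rw [RingHom.mem_ker, ← CommRingCat.comp_apply, ← Scheme.ΓSpecIso_naturality,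
      CommRingCat.comp_apply]
    exact (congrArg (Scheme.ΓSpecIso C).hom.hom ha).trans (map_zero _)
  rw [Ideal.mem_bot]
  have := mul_eq_zero_of_sq hsq (key a ha) (key b hb)
  rw [← map_mul] at this
  have h2 := congrArg (Scheme.ΓSpecIso A).inv.hom this
  rw [map_zero, ← CommRingCat.comp_apply, Iso.hom_inv_id] at h2
  exact h2

variable {R B B' : CommRingCat.{u}} {φ : R ⟶ B} {π : B' ⟶ B} {ψ : R ⟶ B'}

theorem ringUniv_of_specUniv (hu : OmegaSh.IsUnivThickening (Spec.map φ) (Spec.map π) (Spec.map ψ))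
    (hw : ψ ≫ π = φ) :
    letI := φ.hom.toAlgebra
    letI := ψ.hom.toAlgebra
    OmegaSh.IsUnivThickeningRing R B B'
      { toRingHom := π.hom, commutes' := fun r => congr($hw r) } := by
  letI := φ.hom.toAlgebra
  letI := ψ.hom.toAlgebra
  obtain ⟨⟨⟨hcl, hsur⟩, hsq⟩, -, hex⟩ := hu
  have hπ : Function.Surjective π.hom := by
    have h1 := (Spec.map π).app_surjective _ (isAffineOpen_top (Spec B'))
    have h2 : π = (Scheme.ΓSpecIso B').inv ≫ (Spec.map π).appTop ≫ (Scheme.ΓSpecIso B).hom := by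
      rw [Scheme.ΓSpecIso_naturality, Iso.inv_hom_id_assoc]
    intro y
    obtain ⟨x, hx⟩ := h1 ((Scheme.ΓSpecIso B).inv.hom y)
    refine ⟨(Scheme.ΓSpecIso B').hom.hom x, ?_⟩
    rw [← CommRingCat.comp_apply, ← Scheme.ΓSpecIso_naturality, CommRingCat.comp_apply,
      show (Spec.map π).appTop.hom x = _ from hx, ← CommRingCat.comp_apply, Iso.inv_hom_id]
    rfl
  refine ⟨hπ, ?_, fun A _ _ I hI a => ?_⟩
  · have h3 := congrArg (fun J => J.ideal ⟨⊤, isAffineOpen_top (Spec B')⟩) hsq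
    simp only [Scheme.IdealSheafData.ideal_mul, Pi.mul_apply, Scheme.IdealSheafData.ideal_bot,
      Pi.bot_apply, Scheme.Hom.ker_apply] at h3
    rw [eq_bot_iff, pow_two, Ideal.mul_le]
    intro x hx y hy
    have key : ∀ z, z ∈ RingHom.ker π.hom →
        (Scheme.ΓSpecIso B').inv.hom z ∈ RingHom.ker ((Spec.map π).app ⊤).hom := fun z hz => by
      rw [RingHom.mem_ker, ← CommRingCat.comp_apply]
      show ((Scheme.ΓSpecIso B').inv ≫ (Spec.map π).appTop).hom z = 0
      rw [← Scheme.ΓSpecIso_inv_naturality, CommRingCat.comp_apply, show π.hom z = 0 from hz,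
        map_zero]
    have h4 : (Scheme.ΓSpecIso B').inv.hom x * (Scheme.ΓSpecIso B').inv.hom y ∈
        (⊥ : Ideal Γ(Spec B', ⊤)) := h3 ▸ Ideal.mul_mem_mul (key x hx) (key y hy)
    rw [Ideal.mem_bot, ← map_mul] at h4
    have h5 := congrArg (Scheme.ΓSpecIso B').hom.hom h4
    rw [map_zero, ← CommRingCat.comp_apply, Iso.inv_hom_id] at h5
    exact h5
  let j : CommRingCat.of A ⟶ CommRingCat.of (A ⧸ I) := CommRingCat.ofHom (Ideal.Quotient.mk I)
  have hj := isFirstOrder_specMap j Ideal.Quotient.mk_surjective (by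
    rw [show j.hom = Ideal.Quotient.mk I from rfl, Ideal.mk_ker]; exact hI)
  obtain ⟨w, ⟨hw1, hw2⟩, hwu⟩ := hex _ _ (Spec.map j)
    (Spec.map (CommRingCat.ofHom (algebraMap R A))) (Spec.map (CommRingCat.ofHom a.toRingHom)) hj (by
      rw [← Spec.map_comp, ← Spec.map_comp]
      exact congrArg Spec.map (CommRingCat.hom_ext (RingHom.ext fun r => (a.commutes r).symm)))
  obtain ⟨g, rfl⟩ := Spec.map_surjective w
  rw [← Spec.map_comp, ← Spec.map_comp] at hw1
  rw [← Spec.map_comp] at hw2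
  have e1 := Spec.map_injective hw1
  have e2 := Spec.map_injective hw2
  let w' : B' →ₐ[R] A := { toRingHom := g.hom, commutes' := fun r => congr($e2 r) }
  refine ⟨w', AlgHom.ext fun x => congr($e1 x), fun v hv => AlgHom.ext fun x => ?_⟩
  have := hwu (Spec.map (CommRingCat.ofHom v.toRingHom)) ⟨by
      rw [← Spec.map_comp, ← Spec.map_comp]
      exact congrArg Spec.map (CommRingCat.hom_ext (RingHom.ext fun x => DFunLike.congr_fun hv x)),
    by
      rw [← Spec.map_comp]
      exact congrArg Spec.map (CommRingCat.hom_ext (RingHom.ext fun r => v.commutes r))⟩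
  exact congr($(Spec.map_injective this) x)

theorem existsUnique_of_isAffine (hw : ψ ≫ π = φ)
    (hu : letI := φ.hom.toAlgebra
      letI := ψ.hom.toAlgebra
      OmegaSh.IsUnivThickeningRing R B B'
        { toRingHom := π.hom, commutes' := fun r => congr($hw r) })
    {T T' : Scheme.{u}} [IsAffine T'] (j : T ⟶ T') (b : T' ⟶ Spec R) (a : T ⟶ Spec B)
    (hj : MoreMor.IsFirstOrderThickening j) (hjb : j ≫ b = a ≫ Spec.map φ) :
    ∃! a' : T' ⟶ Spec B', Lifts (Spec.map π) (Spec.map ψ) j b a a' := by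
  obtain ⟨⟨_, _⟩, hsq⟩ := hj
  letI := φ.hom.toAlgebra
  letI := ψ.hom.toAlgebra
  letI : Algebra R Γ(T', ⊤) := (γ b).hom.toAlgebra
  have hsurj : Function.Surjective j.appTop.hom := j.app_surjective _ (isAffineOpen_top T')
  have hI : RingHom.ker j.appTop.hom ^ 2 = ⊥ := by
    have h3 := congrArg (fun J => J.ideal ⟨⊤, isAffineOpen_top T'⟩) hsq
    simp only [Scheme.IdealSheafData.ideal_mul, Pi.mul_apply, Scheme.IdealSheafData.ideal_bot,
      Pi.bot_apply, Scheme.Hom.ker_apply] at h3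
    rw [pow_two]; exact h3
  let e : Γ(T', ⊤) ⧸ RingHom.ker j.appTop.hom ≃+* Γ(T, ⊤) :=
    RingHom.quotientKerEquivOfSurjective hsurj
  have he : ∀ x, e.symm (j.appTop.hom x) = Ideal.Quotient.mk _ x := fun x =>
    e.symm_apply_eq.mpr rfl
  have hmk : ∀ {x y}, Ideal.Quotient.mk (RingHom.ker j.appTop.hom) x = e.symm y →
      j.appTop.hom x = y := fun {x y} h => by rw [← he] at h; exact e.symm.injective h
  have hcomm : γ b ≫ j.appTop = φ ≫ γ a := by rw [← γ_comp, hjb, γ_map]
  let aa : B →ₐ[R] Γ(T', ⊤) ⧸ RingHom.ker j.appTop.hom :=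
    { toRingHom := e.symm.toRingHom.comp (γ a).hom
      commutes' := fun r => by
        show e.symm ((φ ≫ γ a).hom r) = _
        rw [← hcomm]
        exact he _ }
  obtain ⟨w, hw1, hwu⟩ := hu.2.2 Γ(T', ⊤) _ hI aa
  let g : B' ⟶ Γ(T', ⊤) := CommRingCat.ofHom w.toRingHom
  refine ⟨T'.toSpecΓ ≫ Spec.map g, ⟨γ_injective ?_, γ_injective ?_⟩, fun a₂ h₂ => γ_injective ?_⟩
  · rw [γ_comp, γ_mk, γ_map]
    exact CommRingCat.hom_ext (RingHom.ext fun x => hmk (DFunLike.congr_fun hw1 x))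
  · rw [γ_map, γ_mk]
    exact CommRingCat.hom_ext (RingHom.ext fun r => w.commutes r)
  · rw [γ_mk]
    have h21 := congrArg γ h₂.1
    have h22 := congrArg γ h₂.2
    rw [γ_comp, γ_map] at h21
    rw [γ_map] at h22
    have hv : ({ toRingHom := (γ a₂).hom, commutes' := fun r => congr($h22 r) } :
        B' →ₐ[R] Γ(T', ⊤)) = w := hwu _ (AlgHom.ext fun x => by
      show Ideal.Quotient.mk _ ((γ a₂).hom x) = e.symm ((γ a).hom (π.hom x))
      rw [← he]
      exact congrArg e.symm congr($h21 x))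
    exact CommRingCat.hom_ext (RingHom.ext fun x => DFunLike.congr_fun hv x)

theorem specUniv_of_ringUniv (hw : ψ ≫ π = φ)
    (hu : letI := φ.hom.toAlgebra
      letI := ψ.hom.toAlgebra
      OmegaSh.IsUnivThickeningRing R B B'
        { toRingHom := π.hom, commutes' := fun r => congr($hw r) }) :
    OmegaSh.IsUnivThickening (Spec.map φ) (Spec.map π) (Spec.map ψ) := by
  refine ⟨isFirstOrder_specMap π hu.1 hu.2.1, by rw [← Spec.map_comp, hw], fun T T' j b a hj hjb => ?_⟩
  have hres : ∀ {S S' : Scheme.{u}} (s : S ⟶ S') (c : S' ⟶ Spec R) (e : S ⟶ Spec B) (O : S'.Opens),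
      s ≫ c = e ≫ Spec.map φ → s ∣_ O ≫ O.ι ≫ c = ((s ⁻¹ᵁ O).ι ≫ e) ≫ Spec.map φ := by
    intro S S' s c e O h
    rw [morphismRestrict_ι_assoc, h, Category.assoc]
  have huniq : ∀ {S S' : Scheme.{u}} (s : S ⟶ S') (c : S' ⟶ Spec R) (e : S ⟶ Spec B),
      MoreMor.IsFirstOrderThickening s → s ≫ c = e ≫ Spec.map φ → ∀ a₁ a₂ : S' ⟶ Spec B',
        Lifts (Spec.map π) (Spec.map ψ) s c e a₁ → Lifts (Spec.map π) (Spec.map ψ) s c e a₂ →
          a₁ = a₂ := by
    intro S S' s c e hs hsc a₁ a₂ h₁ h₂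
    refine eq_of_cover (fun k : S'.affineOpens => k.1) (iSup_affineOpens_eq_top S')
      (fun k b₁ b₂ H₁ H₂ => ?_) h₁ h₂
    have : IsAffine k.1.toScheme := k.2
    exact (existsUnique_of_isAffine hw hu _ _ _ (firstOrder_restrict hs _)
      (hres s c e _ hsc)).unique H₁ H₂
  obtain ⟨a', ha'⟩ := exists_of_cover (i := Spec.map π) (h' := Spec.map ψ) (j := j) (b := b) (a := a)
    (fun k : T'.affineOpens => k.1) (iSup_affineOpens_eq_top T')
    (fun k => by
      have : IsAffine k.1.toScheme := k.2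
      exact (existsUnique_of_isAffine hw hu _ _ _ (firstOrder_restrict hj _)
        (hres j b a _ hjb)).exists)
    fun k l => huniq _ _ _ (firstOrder_restrict hj _) (hres j b a _ hjb)
  exact ⟨a', ha', fun a₂ h₂ => huniq j b a hj hjb a₂ a' h₂ ha'⟩

/-- An affine formally unramified morphism has a universal thickening. -/
theorem exists_specUniv (φ : R ⟶ B) (hφ : φ.hom.FormallyUnramified) :
    ∃ (B' : CommRingCat.{u}) (π : B' ⟶ B) (ψ : R ⟶ B'),
      OmegaSh.IsUnivThickening (Spec.map φ) (Spec.map π) (Spec.map ψ) := by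
  letI := φ.hom.toAlgebra
  haveI : Algebra.FormallyUnramified R B := hφ
  obtain ⟨S', i1, i2, p, hp⟩ := exists_univ (R := R) (S := B)
  have e : (CommRingCat.ofHom (algebraMap R S')).hom.toAlgebra = i2 :=
    @Algebra.algebra_ext R _ S' _ _ i2 fun r => rfl
  have key : ∀ (i3 : Algebra R S'), i3 = i2 → ∀ q : @AlgHom R S' B _ _ _ i3 _, ⇑q = ⇑p →
      @OmegaSh.IsUnivThickeningRing R B S' _ _ i1 _ i3 q := by
    rintro i3 rfl q hq
    rw [DFunLike.coe_injective hq]
    exact hp
  exact ⟨CommRingCat.of S', CommRingCat.ofHom p.toRingHom, CommRingCat.ofHom (algebraMap R S'),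
    specUniv_of_ringUniv (CommRingCat.hom_ext (RingHom.ext fun r => p.commutes r))
      (key _ e _ rfl)⟩

end Groth.L19.Thick
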