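import Groth.Agent.L07.KoszulRel
import Groth.Agent.L07.RegAt
import Groth.Agent.L07.SyntConormal
import Groth.Prelude.Def_Omega3

/-!
# The kernel of the universal thickening of a local complete intersection is finite projective
-/

set_option autoImplicit false
set_option linter.style.haveILetI false
set_option backward.isDefEq.respectTransparency.types false
set_option backward.isDefEq.respectTransparency false

universe u

namespace Groth.L19.Thick

/-- The conormal module of a Koszul-regular ideal is finite projective. -/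
theorem finite_projective_cotangent_of_regAt {A : Type u} [CommRing A] (J : Ideal A)
    (hJ : ∀ (p : Ideal A) [p.IsPrime], J ≤ p → Groth.L07.KoszulIdeal.RegAt J p) :
    Module.Finite (A ⧸ J) J.Cotangent ∧ Module.Projective (A ⧸ J) J.Cotangent := by
  classical
  refine Groth.L07.SyntConormal.finite_projective_of_local_basis fun P hP => ?_
  haveI := hP.isPrime
  obtain ⟨g, hg, l, hl, hgen, hreg⟩ := hJ (P.comap (Ideal.Quotient.mk J)) (fun x hx => by
    rw [Ideal.mem_comap, Ideal.Quotient.eq_zero_iff_mem.mpr hx]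
    exact Ideal.zero_mem _)
  let f : Fin l.length → J := fun i => ⟨l[i.1], hl _ (List.getElem_mem i.2)⟩
  refine ⟨Ideal.Quotient.mk J g, hg, l.length, Fintype.linearCombination (A ⧸ J) fun i => J.toCotangent (f i),
    fun m => ?_, fun x hx => ?_⟩
  · obtain ⟨⟨y, hy⟩, rfl⟩ := J.toCotangent_surjective m
    obtain ⟨k, hk⟩ := hgen y hy
    have hspan : Ideal.span (Set.range fun i : Fin l.length => l[i.1]) = Ideal.ofList l := by
      show _ = Ideal.span _
      congr 1
      ext x
      simp [List.mem_iff_getElem, Fin.exists_iff]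
    rw [← hspan] at hk
    obtain ⟨a, ha⟩ := (Submodule.mem_span_range_iff_exists_fun _).mp hk
    refine ⟨k, LinearMap.mem_range.mpr ⟨fun i => Ideal.Quotient.mk J (a i), ?_⟩⟩
    rw [Fintype.linearCombination_apply, Groth.L07.KoszulRel.sum_smul_eq, ← map_pow]
    show _ = J.toCotangent ((g ^ k) • (⟨y, hy⟩ : J))
    congr 1
    exact Subtype.ext (by simpa [AddSubmonoidClass.coe_finsetSum, f] using ha)
  · choose a ha using fun i => Ideal.Quotient.mk_surjective (x i)
    rw [Fintype.linearCombination_apply] at hx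
    simp only [← ha] at hx
    rw [Groth.L07.KoszulRel.sum_smul_eq, Ideal.toCotangent_eq_zero] at hx
    let L := Localization.Away g
    let θ := algebraMap A L
    let F : Fin l.length → J.map θ := fun i => ⟨θ l[i.1], Ideal.mem_map_of_mem θ (hl _ (List.getElem_mem i.2))⟩
    have hF : (List.ofFn fun i => (F i : L)) = l.map θ := by
      apply List.ext_getElem (by simp [F])
      intro n h1 h2
      simp [F]
    have hFspan : Ideal.span (Set.range fun i => (F i : L)) = J.map θ := by
      refine Eq.trans ?_ (Groth.L07.KoszulIdeal.map_eq θ (IsLocalization.Away.algebraMap_isUnit g) hl hgen).symm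
      show _ = Ideal.span _
      congr 1
      ext x
      simp [F, List.mem_iff_getElem, Fin.exists_iff]
    obtain ⟨b, hb⟩ := Groth.L07.KoszulRel.exists_basis F (hF.symm ▸ hreg) hFspan
    have h0 : ∑ i, (Ideal.Quotient.mk (J.map θ) (θ (a i))) • (J.map θ).toCotangent (F i) = 0 := by
      rw [Groth.L07.KoszulRel.sum_smul_eq, Ideal.toCotangent_eq_zero, ← Ideal.map_pow]
      have h1 := Ideal.mem_map_of_mem θ hx
      simpa [AddSubmonoidClass.coe_finsetSum, map_sum, F, f] using h1
    simp only [← hb] at h0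
    have hli := Fintype.linearIndependent_iff.mp b.linearIndependent _ h0
    have hloc : ∀ i, ∃ k : ℕ, g ^ k * a i ∈ J := fun i => by
      obtain ⟨_, ⟨k, rfl⟩, hk⟩ := (IsLocalization.algebraMap_mem_map_algebraMap_iff (Submonoid.powers g) L J (a i)).mp
        (Ideal.Quotient.eq_zero_iff_mem.mp (hli i))
      exact ⟨k, hk⟩
    choose k hk using hloc
    refine ⟨∑ i, k i, funext fun i => ?_⟩
    rw [Pi.smul_apply, ← ha i, smul_eq_mul, ← map_pow, ← map_mul, Pi.zero_apply, Ideal.Quotient.eq_zero_iff_mem,
      ← Nat.sub_add_cancel (Finset.single_le_sum (f := k) (fun j _ => Nat.zero_le _) (Finset.mem_univ i)),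
      pow_add, mul_assoc]
    exact Ideal.mul_mem_left _ _ (hk i)

/-- The kernel of a universal thickening of an algebra with a presentation with finite projective conormal
module is finite projective. -/
theorem finite_projective_of_univ {R B B' : Type u} [CommRing R] [CommRing B] [CommRing B']
    [Algebra R B] [Algebra R B'] (π : B' →ₐ[R] B) (hπ : _root_.OmegaSh.IsUnivThickeningRing R B B' π)
    {σ : Type} (α : MvPolynomial σ R →ₐ[R] B) (hα : Function.Surjective α)
    (hfin : Module.Finite (MvPolynomial σ R ⧸ RingHom.ker α.toRingHom) (RingHom.ker α.toRingHom).Cotangent)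
    (hproj : Module.Projective (MvPolynomial σ R ⧸ RingHom.ker α.toRingHom) (RingHom.ker α.toRingHom).Cotangent)
    {N : Type u} [AddCommGroup N] [Module B N] (e : N →+ B') (he : Function.Injective e)
    (hrange : ∀ x, π x = 0 → ∃ n, e n = x) (hemem : ∀ n, π (e n) = 0)
    (hsmul : ∀ (x : B') (n : N), e (π x • n) = x * e n) :
    Module.Finite B N ∧ Module.Projective B N := by
  classical
  obtain ⟨hsurj, hsq, huniv⟩ := id hπ
  let P := MvPolynomial σ R
  let J := RingHom.ker α.toRingHom
  haveI := hfin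
  haveI := hproj
  let q : (P ⧸ J) ≃ₐ[R] B := Ideal.quotientKerAlgEquivOfSurjective hα
  -- the two comparison maps
  let Q := P ⧸ J * J
  let I : Ideal Q := J.map (Ideal.Quotient.mk (J * J))
  have hI : I ^ 2 = ⊥ := by rw [pow_two, ← Ideal.map_mul]; exact Ideal.map_quotient_self _
  have hI' : I * I = ⊥ := by rw [← Ideal.map_mul]; exact Ideal.map_quotient_self _
  let πQ : Q →ₐ[R] B := Ideal.Quotient.liftₐ (J * J) α fun x hx => RingHom.mem_ker.mp (Ideal.mul_le_left hx)
  have hπQ : ∀ p, πQ (Ideal.Quotient.mk _ p) = α p := fun p => rfl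
  have hπQs : Function.Surjective πQ := fun b => (hα b).imp' (Ideal.Quotient.mk _) fun p hp => hp
  let a : B →ₐ[R] Q ⧸ I :=
    AlgHom.comp (Ideal.Quotient.liftₐ J ((Ideal.Quotient.mkₐ R I).comp (Ideal.Quotient.mkₐ R (J * J)))
      fun x hx => Ideal.Quotient.eq_zero_iff_mem.mpr (Ideal.mem_map_of_mem _ hx)) q.symm.toAlgHom
  have haα : ∀ p, a (α p) = Ideal.Quotient.mk I (Ideal.Quotient.mk _ p) := fun p => by
    have : q.symm (α p) = Ideal.Quotient.mk J p := q.injective (by rw [q.apply_symm_apply]; rfl)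
    rw [show a (α p) = (Ideal.Quotient.liftₐ J ((Ideal.Quotient.mkₐ R I).comp (Ideal.Quotient.mkₐ R (J * J)))
      fun x hx => Ideal.Quotient.eq_zero_iff_mem.mpr (Ideal.mem_map_of_mem _ hx)) (q.symm (α p)) from rfl, this]
    rfl
  obtain ⟨w, hw, -⟩ := huniv Q I hI a
  have hwπ : ∀ x, πQ (w x) = π x := fun x => by
    obtain ⟨p, hp⟩ := hα (π x)
    obtain ⟨q', hq'⟩ := Ideal.Quotient.mk_surjective (w x)
    have h1 : Ideal.Quotient.mk I (w x) = a (π x) := DFunLike.congr_fun hw x
    rw [← hp, haα, Ideal.Quotient.eq, Ideal.mem_map_iff_of_surjective _ Ideal.Quotient.mk_surjective] at h1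
    obtain ⟨y, hy, hy'⟩ := h1
    have h2 := congrArg πQ hy'
    rw [map_sub, hπQ, hπQ, show α y = 0 from hy, hp, eq_comm, sub_eq_zero] at h2
    exact h2
  choose c hc using fun i => hsurj (α (MvPolynomial.X i))
  let ρ₀ : P →ₐ[R] B' := MvPolynomial.aeval c
  have hρ₀ : ∀ p, π (ρ₀ p) = α p := fun p => DFunLike.congr_fun
    (MvPolynomial.algHom_ext (fun i => by simp [ρ₀, hc]) : π.comp ρ₀ = α) p
  have hρJ : ∀ y ∈ J, π (ρ₀ y) = 0 := fun y hy => (hρ₀ y).trans hy
  have hJJ : J * J ≤ RingHom.ker ρ₀ := Ideal.mul_le.mpr fun x hx y hy => by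
    rw [RingHom.mem_ker, map_mul]
    have := Ideal.mul_mem_mul (show ρ₀ x ∈ RingHom.ker π.toRingHom from hρJ x hx)
      (show ρ₀ y ∈ RingHom.ker π.toRingHom from hρJ y hy)
    rwa [← pow_two, hsq, Ideal.mem_bot] at this
  let ρ : Q →ₐ[R] B' := Ideal.Quotient.liftₐ (J * J) ρ₀ fun x hx => hJJ hx
  have hρπ : ∀ x, π (ρ x) = πQ x := fun x => by
    obtain ⟨p, rfl⟩ := Ideal.Quotient.mk_surjective x
    exact hρ₀ p
  have hρw : ρ.comp w = AlgHom.id R B' := by
    obtain ⟨v, -, hv⟩ := huniv B' (RingHom.ker π.toRingHom) hsq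
      (Ideal.quotientKerAlgEquivOfSurjective hsurj).symm.toAlgHom
    refine (hv _ ?_).trans (hv _ ?_).symm <;>
    · refine AlgHom.ext fun x => (Ideal.quotientKerAlgEquivOfSurjective hsurj).injective ?_
      show _ = (Ideal.quotientKerAlgEquivOfSurjective hsurj) ((Ideal.quotientKerAlgEquivOfSurjective hsurj).symm (π x))
      rw [AlgEquiv.apply_symm_apply]
      first
        | exact ((hρπ (w x)).trans (hwπ x))
        | rfl
  -- as modules over `P ⧸ J`
  letI : Module (P ⧸ J) N := Module.compHom N q.toAlgHom.toRingHom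
  have hsmulN : ∀ (p : P) (n : N), e (Ideal.Quotient.mk J p • n) = ρ₀ p * e n := fun p n => by
    show e (q (Ideal.Quotient.mk J p) • n) = _
    rw [show q (Ideal.Quotient.mk J p) = π (ρ₀ p) from (hρ₀ p).symm, hsmul]
  have hwN : ∀ n, ∃ y : J, Ideal.Quotient.mk (J * J) (y : P) = w (e n) := fun n => by
    obtain ⟨p, hp⟩ := Ideal.Quotient.mk_surjective (w (e n))
    refine ⟨⟨p, RingHom.mem_ker.mpr ?_⟩, hp⟩
    show α p = 0
    rw [← hπQ p, hp, hwπ, hemem]
  choose y hy using hwN
  have hkey : ∀ (x y : J), Ideal.Quotient.mk (J * J) (x : P) = Ideal.Quotient.mk (J * J) (y : P) →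
      J.toCotangent x = J.toCotangent y := fun x y h => by
    rw [Ideal.toCotangent_eq, pow_two]
    exact Ideal.Quotient.eq.mp h
  let incl : N →ₗ[P ⧸ J] J.Cotangent :=
    { toFun := fun n => J.toCotangent (y n)
      map_add' := fun n n' => by
        rw [← map_add]
        refine hkey _ _ ?_
        rw [hy, map_add e, map_add w, Submodule.coe_add, map_add, hy, hy]
      map_smul' := fun r n => by
        obtain ⟨p, rfl⟩ := Ideal.Quotient.mk_surjective r
        rw [RingHom.id_apply]
        show J.toCotangent (y (Ideal.Quotient.mk J p • n)) = J.toCotangent (p • y n)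
        refine hkey _ _ ?_
        rw [hy, hsmulN, map_mul w, Submodule.coe_smul, smul_eq_mul, map_mul, hy]
        have h1 : w (ρ₀ p) - Ideal.Quotient.mk (J * J) p ∈ I := by
          rw [← Ideal.Quotient.eq, ← haα]
          rw [← hρ₀ p]
          exact DFunLike.congr_fun hw (ρ₀ p)
        have h2 : w (e n) ∈ I := hy n ▸ Ideal.mem_map_of_mem _ (y n).2
        refine sub_eq_zero.mp ?_
        rw [← sub_mul]
        have h3 := Ideal.mul_mem_mul h1 h2
        rwa [hI', Ideal.mem_bot] at h3 }
  choose m hm using fun z : J => hrange (ρ₀ z) (hρJ z z.2)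
  choose lift hlift using J.toCotangent_surjective
  have hret : ∀ (z z' : J), J.toCotangent z = J.toCotangent z' → ρ₀ (z : P) = ρ₀ (z' : P) := fun z z' h => by
    rw [Ideal.toCotangent_eq, pow_two] at h
    rw [← sub_eq_zero, ← map_sub]
    exact hJJ h
  let retr : J.Cotangent →ₗ[P ⧸ J] N :=
    { toFun := fun z => m (lift z)
      map_add' := fun z z' => he (by
        rw [map_add, hm, hm, hm, hret (lift (z + z')) (lift z + lift z') (by rw [map_add, hlift, hlift, hlift]),
          Submodule.coe_add, map_add])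
      map_smul' := fun r z => he (by
        obtain ⟨p, rfl⟩ := Ideal.Quotient.mk_surjective r
        rw [RingHom.id_apply, hsmulN, hm, hm,
          hret (lift (Ideal.Quotient.mk J p • z)) (p • lift z) (by rw [map_smul, hlift, hlift]; rfl),
          Submodule.coe_smul, smul_eq_mul, map_mul]) }
  have hid : retr.comp incl = LinearMap.id := LinearMap.ext fun n => he (by
    show e (m (lift (J.toCotangent (y n)))) = e n
    rw [hm, hret (lift (J.toCotangent (y n))) (y n) (hlift _)]
    show ρ (Ideal.Quotient.mk _ (y n : P)) = _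
    rw [hy]
    exact DFunLike.congr_fun hρw (e n))
  haveI : Module.Projective (P ⧸ J) N := Module.Projective.of_split incl retr hid
  haveI : Module.Finite (P ⧸ J) N := Module.Finite.of_surjective retr fun n => ⟨incl n, LinearMap.congr_fun hid n⟩
  letI := q.toAlgHom.toRingHom.toAlgebra
  haveI : IsScalarTower (P ⧸ J) B N := IsScalarTower.of_algebraMap_smul fun _ _ => rfl
  refine ⟨Module.Finite.of_restrictScalars_finite (P ⧸ J) B N, ?_⟩
  let qe : (P ⧸ J) ≃+* B := q.toRingEquiv
  haveI := RingHomInvPair.of_ringEquiv qe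
  haveI := RingHomInvPair.symm (qe : (P ⧸ J) →+* B) (qe.symm : B →+* (P ⧸ J))
  exact Module.Projective.of_equiv
    ({ AddEquiv.refl N with map_smul' := fun r n => rfl } : N ≃ₛₗ[(qe : (P ⧸ J) →+* B)] N)

end Groth.L19.Thick
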