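import Groth.Prelude.Def_Omega3
import Groth.Agent.L17.ThickBasic
import Groth.Agent.L22.Ideal
import Mathlib.AlgebraicGeometry.Morphisms.ClosedImmersion
import Mathlib.AlgebraicGeometry.Morphisms.UnderlyingMap

/-!
# First order thickenings of schemes: restriction and gluing of the universal property
-/

set_option backward.isDefEq.respectTransparency.types false
set_option backward.isDefEq.respectTransparency false

universe u

open CategoryTheory CategoryTheory.Limits AlgebraicGeometry TopologicalSpace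

namespace Groth.L19.Thick

variable {T T' Z Z' X : Scheme.{u}}

theorem mk_firstOrder {j : T ⟶ T'} [IsClosedImmersion j] [Surjective j]
    (h : j.ker * j.ker = ⊥) : MoreMor.IsFirstOrderThickening j :=
  ⟨⟨‹_›, ‹_›⟩, h⟩

/-- The base change of a first order thickening. -/
theorem firstOrder_of_isPullback {P : Scheme.{u}} {p : P ⟶ T} {q : P ⟶ X} {j : T ⟶ T'}
    {g : X ⟶ T'} (hj : MoreMor.IsFirstOrderThickening j) (hc : IsPullback q p g j) :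
    MoreMor.IsFirstOrderThickening q := by
  obtain ⟨⟨_, _⟩, hsq⟩ := hj
  have : IsClosedImmersion q := MorphismProperty.of_isPullback hc.flip inferInstance
  have : Surjective q := MorphismProperty.of_isPullback hc.flip inferInstance
  refine mk_firstOrder ?_
  rw [Groth.L17.Thick.ker_of_isPullback hc, ← Groth.L22.Ideals.comap_mul, hsq,
    Scheme.IdealSheafData.comap_bot]

theorem firstOrder_restrict {j : T ⟶ T'} (hj : MoreMor.IsFirstOrderThickening j) (W : T'.Opens) :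
    MoreMor.IsFirstOrderThickening (j ∣_ W) :=
  firstOrder_of_isPullback hj (isPullback_morphismRestrict j W)

theorem eq_bot_of_cover (I : T'.IdealSheafData) {κ : Type*} (W : κ → T'.Opens)
    (hW : ⨆ k, W k = ⊤) (h : ∀ k, I.comap (W k).ι = ⊥) : I = ⊥ := by
  refine Scheme.IdealSheafData.ext_of_iSup_eq_top
    (fun V : {V : T'.affineOpens // ∃ k, V.1 ≤ W k} => V.1) ?_ fun V => ?_
  · refine eq_top_iff.mpr fun x _ => ?_
    obtain ⟨k, hk⟩ := Opens.mem_iSup.mp (hW.ge (Opens.mem_top x))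
    obtain ⟨_, ⟨V, hV, rfl⟩, hxV, hVk⟩ :=
      T'.isBasis_affineOpens.exists_subset_of_mem_open hk (W k).2
    exact Opens.mem_iSup.mpr ⟨⟨⟨V, hV⟩, k, hVk⟩, hxV⟩
  · obtain ⟨⟨V, hV⟩, k, hk⟩ := V
    have e : I.comap V.ι = ⊥ := by
      rw [← Scheme.homOfLE_ι _ hk, Scheme.IdealSheafData.comap_comp, h k,
        Scheme.IdealSheafData.comap_bot]
    have h2 := Groth.L22.Ideals.comap_ideal_ι I ⟨V, hV⟩
    rw [e, Scheme.IdealSheafData.ideal_bot] at h2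
    rw [Scheme.IdealSheafData.ideal_bot]
    refine Groth.L22.Ideals.map_hom_inj V.topIso.symm ?_
    rw [Iso.symm_hom, ← h2]
    simp

variable {i : Z ⟶ Z'} {h' : Z' ⟶ X} {j : T ⟶ T'} {b : T' ⟶ X} {a : T ⟶ Z}

/-- Lifts of `a` to a morphism of thickenings over the base. -/
def Lifts (i : Z ⟶ Z') (h' : Z' ⟶ X) (j : T ⟶ T') (b : T' ⟶ X) (a : T ⟶ Z) (a' : T' ⟶ Z') :
    Prop :=
  j ≫ a' = a ≫ i ∧ a' ≫ h' = b

theorem Lifts.restrict {a' : T' ⟶ Z'} (h : Lifts i h' j b a a') (W : T'.Opens) :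
    Lifts i h' (j ∣_ W) (W.ι ≫ b) ((j ⁻¹ᵁ W).ι ≫ a) (W.ι ≫ a') :=
  ⟨by rw [morphismRestrict_ι_assoc, h.1, Category.assoc], by rw [Category.assoc, h.2]⟩

/-- The cover by the opens of a covering family. -/
noncomputable def coverOfOpens {κ : Type u} (W : κ → T'.Opens) (hW : ⨆ k, W k = ⊤) : T'.OpenCover :=
  T'.openCoverOfIsOpenCover W hW

theorem eq_of_cover {κ : Type u} (W : κ → T'.Opens) (hW : ⨆ k, W k = ⊤)
    (hu : ∀ k, ∀ a₁ a₂ : (W k : Scheme.{u}) ⟶ Z',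
      Lifts i h' (j ∣_ W k) ((W k).ι ≫ b) ((j ⁻¹ᵁ W k).ι ≫ a) a₁ →
      Lifts i h' (j ∣_ W k) ((W k).ι ≫ b) ((j ⁻¹ᵁ W k).ι ≫ a) a₂ → a₁ = a₂)
    {a₁ a₂ : T' ⟶ Z'} (h₁ : Lifts i h' j b a a₁) (h₂ : Lifts i h' j b a a₂) : a₁ = a₂ :=
  (coverOfOpens W hW).hom_ext _ _ fun k => hu k _ _ (h₁.restrict _) (h₂.restrict _)

theorem exists_of_cover {κ : Type u} (W : κ → T'.Opens) (hW : ⨆ k, W k = ⊤)
    (he : ∀ k, ∃ a' : (W k : Scheme.{u}) ⟶ Z',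
      Lifts i h' (j ∣_ W k) ((W k).ι ≫ b) ((j ⁻¹ᵁ W k).ι ≫ a) a')
    (hu : ∀ k l, ∀ a₁ a₂ : ((W k ⊓ W l : T'.Opens) : Scheme.{u}) ⟶ Z',
      Lifts i h' (j ∣_ (W k ⊓ W l)) ((W k ⊓ W l).ι ≫ b) ((j ⁻¹ᵁ (W k ⊓ W l)).ι ≫ a) a₁ →
      Lifts i h' (j ∣_ (W k ⊓ W l)) ((W k ⊓ W l).ι ≫ b) ((j ⁻¹ᵁ (W k ⊓ W l)).ι ≫ a) a₂ →
        a₁ = a₂) :
    ∃ a' : T' ⟶ Z', Lifts i h' j b a a' := by
  choose f hf using he
  have key : ∀ k (O : T'.Opens) (hO : O ≤ W k),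
      Lifts i h' (j ∣_ O) (O.ι ≫ b) ((j ⁻¹ᵁ O).ι ≫ a) (T'.homOfLE hO ≫ f k) := by
    intro k O hO
    refine ⟨?_, by rw [Category.assoc, (hf k).2, Scheme.homOfLE_ι_assoc]⟩
    have e : j ∣_ O ≫ T'.homOfLE hO = T.homOfLE (fun x hx => hO hx) ≫ j ∣_ W k := by
      rw [← cancel_mono (W k).ι]
      simp [morphismRestrict_ι]
    rw [reassoc_of% e, (hf k).1]
    simp
  let 𝒰 := coverOfOpens W hW
  have hg : ∀ k l, pullback.fst (W k).ι (W l).ι ≫ f k = pullback.snd (W k).ι (W l).ι ≫ f l := by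
    intro k l
    have hP : IsPullback (T'.homOfLE (inf_le_left (a := W k) (b := W l))) (T'.homOfLE inf_le_right)
        (W k).ι (W l).ι := by
      refine IsOpenImmersion.isPullback _ _ _ _ (by simp) ?_
      rw [Scheme.Opens.opensRange_ι, Scheme.opensRange_homOfLE]
      refine TopologicalSpace.Opens.ext (Set.ext fun x => ?_)
      exact ⟨fun hx => ⟨hx, x.2⟩, fun hx => hx.1⟩
    rw [← cancel_epi hP.isoPullback.hom, IsPullback.isoPullback_hom_fst_assoc,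
      IsPullback.isoPullback_hom_snd_assoc]
    exact hu k l _ _ (key k _ _) (key l _ _)
  refine ⟨𝒰.glueMorphisms f hg, ?_, 𝒰.hom_ext _ _ fun k => ?_⟩
  · refine Scheme.Cover.hom_ext (T.openCoverOfIsOpenCover (fun k => j ⁻¹ᵁ W k) ?_) _ _ fun k => ?_
    · refine eq_top_iff.mpr fun x _ => ?_
      obtain ⟨k, hk⟩ := Opens.mem_iSup.mp (hW.ge (Opens.mem_top (j x)))
      exact Opens.mem_iSup.mpr ⟨k, hk⟩
    · show (j ⁻¹ᵁ W k).ι ≫ j ≫ _ = (j ⁻¹ᵁ W k).ι ≫ a ≫ i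
      rw [← Category.assoc, ← morphismRestrict_ι, Category.assoc,
        show (W k).ι ≫ 𝒰.glueMorphisms f hg = f k from 𝒰.ι_glueMorphisms f hg k, (hf k).1,
        Category.assoc]
  · show (W k).ι ≫ 𝒰.glueMorphisms f hg ≫ h' = (W k).ι ≫ b
    rw [← Category.assoc,
      show (W k).ι ≫ 𝒰.glueMorphisms f hg = f k from 𝒰.ι_glueMorphisms f hg k, (hf k).2]

/-- On points a lift is determined by the morphism it lifts. -/
theorem Lifts.apply {a' : T' ⟶ Z'} (h : Lifts i h' j b a a') (x : T) : a' (j x) = i (a x) := by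
  rw [← Scheme.Hom.comp_apply, h.1, Scheme.Hom.comp_apply]

theorem Lifts.range_le {a' : T' ⟶ Z'} (h : Lifts i h' j b a a') [Surjective j] (O : Z'.Opens)
    (ha : ∀ x, i (a x) ∈ O) : Set.range a' ⊆ O := by
  rintro _ ⟨y, rfl⟩
  obtain ⟨x, rfl⟩ := j.surjective y
  rw [h.apply]
  exact ha x

/-- The universal property can be checked on an open cover of the thickening. -/
theorem isUniv_of_cover {h : Z ⟶ X} (hi : MoreMor.IsFirstOrderThickening i) (hw : i ≫ h' = h)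
    {κ : Type u} (V : κ → Z'.Opens) (hV : ⨆ k, V k = ⊤)
    (hu : ∀ k, OmegaSh.IsUnivThickening ((i ⁻¹ᵁ V k).ι ≫ h) (i ∣_ V k) ((V k).ι ≫ h')) :
    OmegaSh.IsUnivThickening h i h' := by
  refine ⟨hi, hw, fun T T' j b a hj hjb => ?_⟩
  -- uniqueness for all test objects
  have huniq : ∀ {S S' : Scheme.{u}} (s : S ⟶ S') (c : S' ⟶ X) (e : S ⟶ Z),
      MoreMor.IsFirstOrderThickening s → s ≫ c = e ≫ h → ∀ a₁ a₂ : S' ⟶ Z',
        Lifts i h' s c e a₁ → Lifts i h' s c e a₂ → a₁ = a₂ := by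
    intro S S' s c e hs hsc a₁ a₂ h₁ h₂
    have := hs.1.2
    refine eq_of_cover (fun k => a₁ ⁻¹ᵁ V k) (eq_top_iff.mpr fun x _ => ?_) (fun k b₁ b₂ H₁ H₂ => ?_)
      h₁ h₂
    · obtain ⟨k, hk⟩ := Opens.mem_iSup.mp (hV.ge (Opens.mem_top (a₁ x)))
      exact Opens.mem_iSup.mpr ⟨k, hk⟩
    have hp : ∀ x : (s ⁻¹ᵁ (a₁ ⁻¹ᵁ V k)).toScheme,
        i (e ((s ⁻¹ᵁ (a₁ ⁻¹ᵁ V k)).ι x)) ∈ V k := fun x => by rw [← h₁.apply]; exact x.2
    have hs' := firstOrder_restrict hs (a₁ ⁻¹ᵁ V k)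
    have := hs'.1.2
    have r₁ := H₁.range_le (V k) hp
    have r₂ := H₂.range_le (V k) hp
    have re : Set.range ((s ⁻¹ᵁ (a₁ ⁻¹ᵁ V k)).ι ≫ e) ⊆ Set.range (i ⁻¹ᵁ V k).ι := by
      rw [Scheme.Opens.range_ι]; rintro _ ⟨x, rfl⟩; exact hp x
    obtain ⟨_, _, hex⟩ := hu k
    obtain ⟨w, -, hwu⟩ := hex _ _ (s ∣_ (a₁ ⁻¹ᵁ V k)) ((a₁ ⁻¹ᵁ V k).ι ≫ c)
      (IsOpenImmersion.lift (i ⁻¹ᵁ V k).ι ((s ⁻¹ᵁ (a₁ ⁻¹ᵁ V k)).ι ≫ e) re) hs' (by
        rw [IsOpenImmersion.lift_fac_assoc, morphismRestrict_ι_assoc, hsc, Category.assoc])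
    have key : ∀ (b' : (a₁ ⁻¹ᵁ V k).toScheme ⟶ Z') (r : Set.range b' ⊆ Set.range (V k).ι),
        Lifts i h' (s ∣_ (a₁ ⁻¹ᵁ V k)) ((a₁ ⁻¹ᵁ V k).ι ≫ c) ((s ⁻¹ᵁ (a₁ ⁻¹ᵁ V k)).ι ≫ e) b' →
        IsOpenImmersion.lift (V k).ι b' r = w := fun b' r H => by
      refine hwu _ ⟨?_, ?_⟩
      · rw [← cancel_mono (V k).ι]
        simp only [Category.assoc, IsOpenImmersion.lift_fac, morphismRestrict_ι,
          IsOpenImmersion.lift_fac_assoc]
        simpa using H.1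
      · rw [IsOpenImmersion.lift_fac_assoc]; exact H.2
    have e₁ := key b₁ (by rwa [Scheme.Opens.range_ι]) H₁
    have e₂ := key b₂ (by rwa [Scheme.Opens.range_ι]) H₂
    rw [← IsOpenImmersion.lift_fac (V k).ι b₁ (by rwa [Scheme.Opens.range_ι]),
      ← IsOpenImmersion.lift_fac (V k).ι b₂ (by rwa [Scheme.Opens.range_ι]), e₁, e₂]
  have := hj.1.2
  have hj1 := hj.1.1
  -- the opens of the test thickening over the members of the cover
  have hhom : Topology.IsInducing j.base := j.isClosedEmbedding.isInducing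
  have hW : ∀ k, ∃ W : T'.Opens, j ⁻¹ᵁ W = a ⁻¹ᵁ (i ⁻¹ᵁ V k) := fun k => by
    obtain ⟨O, hO, hO'⟩ := hhom.isOpen_iff.mp (a ⁻¹ᵁ (i ⁻¹ᵁ V k)).2
    exact ⟨⟨O, hO⟩, SetLike.coe_injective hO'⟩
  choose W hW using hW
  have hcov : ⨆ k, W k = ⊤ := eq_top_iff.mpr fun y _ => by
    obtain ⟨x, rfl⟩ := j.surjective y
    obtain ⟨k, hk⟩ := Opens.mem_iSup.mp (hV.ge (Opens.mem_top (i (a x))))
    exact Opens.mem_iSup.mpr ⟨k, show x ∈ j ⁻¹ᵁ W k by rw [hW]; exact hk⟩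
  have hres : ∀ O : T'.Opens, j ∣_ O ≫ O.ι ≫ b = ((j ⁻¹ᵁ O).ι ≫ a) ≫ h := fun O => by
    rw [morphismRestrict_ι_assoc, hjb, Category.assoc]
  obtain ⟨a', ha'⟩ : ∃ a' : T' ⟶ Z', Lifts i h' j b a a' := by
    refine exists_of_cover W hcov (fun k => ?_)
      fun k l => huniq _ _ _ (firstOrder_restrict hj _) (hres _)
    obtain ⟨_, _, hex⟩ := hu k
    have re : Set.range ((j ⁻¹ᵁ W k).ι ≫ a) ⊆ Set.range (i ⁻¹ᵁ V k).ι := by
      rw [Scheme.Opens.range_ι]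
      rintro _ ⟨x, rfl⟩
      exact (hW k).le x.2
    obtain ⟨w, ⟨hw1, hw2⟩, -⟩ := hex _ _ (j ∣_ W k) ((W k).ι ≫ b)
      (IsOpenImmersion.lift (i ⁻¹ᵁ V k).ι _ re) (firstOrder_restrict hj _) (by
        rw [IsOpenImmersion.lift_fac_assoc]; exact hres _)
    refine ⟨w ≫ (V k).ι, ?_, by rw [Category.assoc]; exact hw2⟩
    rw [reassoc_of% hw1, morphismRestrict_ι, IsOpenImmersion.lift_fac_assoc]
  exact ⟨a', ha', fun a₂ h₂ => huniq j b a hj hjb a₂ a' h₂ ha'⟩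

/-- Restricting a universal thickening to opens. -/
theorem isUniv_resLE {h : Z ⟶ X} (hu : OmegaSh.IsUnivThickening h i h') (V : Z.Opens) (U : X.Opens)
    (hVU : V ≤ h ⁻¹ᵁ U) (V' : Z'.Opens) (hV' : i ⁻¹ᵁ V' = V) (hV'U : V' ≤ h' ⁻¹ᵁ U) :
    OmegaSh.IsUnivThickening (h.resLE U V hVU) (i.resLE V' V hV'.ge) (h'.resLE U V' hV'U) := by
  subst hV'
  obtain ⟨hi, hw, hex⟩ := hu
  refine ⟨?_, by rw [← cancel_mono U.ι]; simp [hw], fun T T' j b a hj hjb => ?_⟩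
  · rw [Scheme.Hom.resLE_eq_morphismRestrict]
    exact firstOrder_restrict hi V'
  obtain ⟨w, ⟨hw1, hw2⟩, hwu⟩ := hex T T' j (b ≫ U.ι) (a ≫ (i ⁻¹ᵁ V').ι) hj (by
    rw [reassoc_of% hjb]; simp)
  have := hj.1.2
  have hr : Set.range w ⊆ Set.range V'.ι := by
    rw [Scheme.Opens.range_ι]
    exact Lifts.range_le (i := i) (h' := h') ⟨hw1, hw2⟩ V' fun x => (a x).2
  refine ⟨IsOpenImmersion.lift V'.ι w hr, ⟨?_, ?_⟩, fun w' h => ?_⟩
  · rw [← cancel_mono V'.ι]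
    simp only [Category.assoc, IsOpenImmersion.lift_fac, Scheme.Hom.resLE_comp_ι]
    simpa using hw1
  · rw [← cancel_mono U.ι]
    simp only [Category.assoc, Scheme.Hom.resLE_comp_ι, IsOpenImmersion.lift_fac_assoc]
    exact hw2
  · rw [← cancel_mono V'.ι, IsOpenImmersion.lift_fac]
    refine hwu _ ⟨?_, ?_⟩
    · rw [reassoc_of% h.1, Scheme.Hom.resLE_comp_ι, Category.assoc]
    · rw [← congr($(h.2) ≫ U.ι)]; simp

end Groth.L19.Thick
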