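import Groth.Agent.L19.Thick.Affine
import Mathlib.AlgebraicGeometry.Morphisms.FormallyUnramified
import Mathlib.AlgebraicGeometry.Gluing

/-!
# Universal first order thickenings of formally unramified morphisms
-/

set_option backward.isDefEq.respectTransparency.types false
set_option backward.isDefEq.respectTransparency false
set_option backward.defeqAttrib.useBackward true

universe u

open CategoryTheory CategoryTheory.Limits AlgebraicGeometry TopologicalSpace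

namespace Groth.L19.Thick

variable {Z Z' X : Scheme.{u}} {h : Z ⟶ X} {i : Z ⟶ Z'} {h' : Z' ⟶ X}

theorem isUniv_of_iso (hu : OmegaSh.IsUnivThickening h i h') {Z₂ Z₂' : Scheme.{u}} (e : Z₂ ≅ Z)
    (e' : Z₂' ≅ Z') {h₂ : Z₂ ⟶ X} {i₂ : Z₂ ⟶ Z₂'} {h₂' : Z₂' ⟶ X} (eh : e.hom ≫ h = h₂)
    (ei : i₂ ≫ e'.hom = e.hom ≫ i) (eh' : e'.hom ≫ h' = h₂') :
    OmegaSh.IsUnivThickening h₂ i₂ h₂' := by
  obtain ⟨hi, hw, hex⟩ := hu
  refine ⟨firstOrder_of_isPullback hi (IsPullback.of_vert_isIso ⟨ei⟩ : IsPullback i₂ e.hom e'.hom i),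
    by rw [← eh', reassoc_of% ei, hw, eh], fun T T' j b a hj hjb => ?_⟩
  obtain ⟨w, ⟨hw1, hw2⟩, hwu⟩ := hex T T' j b (a ≫ e.hom) hj (by rw [Category.assoc, eh, hjb])
  refine ⟨w ≫ e'.inv, ⟨?_, ?_⟩, fun w' h => ?_⟩
  · rw [← cancel_mono e'.hom]
    simp [hw1, ei]
  · rw [← eh', Category.assoc, e'.inv_hom_id_assoc, hw2]
  · rw [Iso.eq_comp_inv]
    refine hwu _ ⟨?_, ?_⟩
    · rw [reassoc_of% h.1, ei, Category.assoc]
    · rw [Category.assoc, eh', h.2]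

theorem isUniv_comp (hu : OmegaSh.IsUnivThickening h i h') {X₂ : Scheme.{u}} (u : X ⟶ X₂)
    [IsOpenImmersion u] : OmegaSh.IsUnivThickening (h ≫ u) i (h' ≫ u) := by
  obtain ⟨hi, hw, hex⟩ := hu
  refine ⟨hi, by rw [reassoc_of% hw], fun T T' j b a hj hjb => ?_⟩
  have := hj.1.2
  have hr : Set.range b ⊆ Set.range u := by
    rintro _ ⟨y, rfl⟩
    obtain ⟨x, rfl⟩ := j.surjective y
    rw [← Scheme.Hom.comp_apply, hjb, ← Category.assoc, Scheme.Hom.comp_apply]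
    exact ⟨_, rfl⟩
  obtain ⟨w, ⟨hw1, hw2⟩, hwu⟩ := hex T T' j (IsOpenImmersion.lift u b hr) a hj (by
    rw [← cancel_mono u]; simp [hjb])
  refine ⟨w, ⟨hw1, by rw [reassoc_of% hw2, IsOpenImmersion.lift_fac]⟩, fun w' h => hwu _ ⟨h.1, ?_⟩⟩
  rw [← cancel_mono u, IsOpenImmersion.lift_fac, Category.assoc, h.2]

theorem isUniv_restrict (hu : OmegaSh.IsUnivThickening h i h') (O : Z'.Opens) :
    OmegaSh.IsUnivThickening ((i ⁻¹ᵁ O).ι ≫ h) (i ∣_ O) (O.ι ≫ h') := by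
  have := isUniv_comp (isUniv_resLE hu (i ⁻¹ᵁ O) ⊤ (fun _ _ => trivial) O rfl fun _ _ => trivial)
    (⊤ : X.Opens).ι
  rwa [Scheme.Hom.resLE_comp_ι, Scheme.Hom.resLE_comp_ι, Scheme.Hom.resLE_eq_morphismRestrict] at this

theorem exists_iso_of_isUniv (hu : OmegaSh.IsUnivThickening h i h') {Z₂ : Scheme.{u}} {i₂ : Z ⟶ Z₂}
    {h₂ : Z₂ ⟶ X} (hu₂ : OmegaSh.IsUnivThickening h i₂ h₂) :
    ∃ e : Z' ≅ Z₂, i ≫ e.hom = i₂ ∧ e.hom ≫ h₂ = h' := by
  obtain ⟨hi, hw, hex⟩ := hu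
  obtain ⟨hi₂, hw₂, hex₂⟩ := hu₂
  obtain ⟨f, ⟨hf1, hf2⟩, -⟩ := hex₂ Z Z' i h' (𝟙 Z) hi (by rw [hw, Category.id_comp])
  obtain ⟨g, ⟨hg1, hg2⟩, -⟩ := hex Z Z₂ i₂ h₂ (𝟙 Z) hi₂ (by rw [hw₂, Category.id_comp])
  rw [Category.id_comp] at hf1 hg1
  obtain ⟨w, -, hwu⟩ := hex Z Z' i h' (𝟙 Z) hi (by rw [hw, Category.id_comp])
  obtain ⟨w₂, -, hwu₂⟩ := hex₂ Z Z₂ i₂ h₂ (𝟙 Z) hi₂ (by rw [hw₂, Category.id_comp])
  refine ⟨⟨f, g, ?_, ?_⟩, hf1, hf2⟩
  · rw [hwu (f ≫ g) ⟨by rw [reassoc_of% hf1, hg1, Category.id_comp],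
      by rw [Category.assoc, hg2, hf2]⟩, ← hwu (𝟙 Z') ⟨by simp, Category.id_comp _⟩]
  · rw [hwu₂ (g ≫ f) ⟨by rw [reassoc_of% hg1, hf1, Category.id_comp],
      by rw [Category.assoc, hf2, hg2]⟩, ← hwu₂ (𝟙 Z₂) ⟨by simp, Category.id_comp _⟩]

theorem exists_univ_of_affine [FormallyUnramified h] {U : X.Opens} (hU : IsAffineOpen U)
    {V : Z.Opens} (hV : IsAffineOpen V) (e : V ≤ h ⁻¹ᵁ U) :
    ∃ (W : Scheme.{u}) (j : V.toScheme ⟶ W) (k : W ⟶ X),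
      OmegaSh.IsUnivThickening (V.ι ≫ h) j k := by
  obtain ⟨B', π, ψ, hu⟩ := exists_specUniv _ (h.formallyUnramified_appLE hU hV e)
  refine ⟨Spec B', hV.isoSpec.hom ≫ Spec.map π, Spec.map ψ ≫ hU.fromSpec,
    isUniv_of_iso (isUniv_comp hu hU.fromSpec) hV.isoSpec (Iso.refl _) ?_ (by simp) (by simp)⟩
  rw [hU.SpecMap_appLE_fromSpec h hV e, ← hV.isoSpec_inv_ι]
  simp

theorem exists_univ_scheme (h : Z ⟶ X) [FormallyUnramified h] :
    ∃ (Z' : Scheme.{u}) (i : Z ⟶ Z') (h' : Z' ⟶ X), OmegaSh.IsUnivThickening h i h' := by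
  let J := {V : Z.affineOpens // ∃ U : X.Opens, IsAffineOpen U ∧ V.1 ≤ h ⁻¹ᵁ U}
  have hJ : ∀ (O : Z.Opens), ∀ z ∈ O, ∃ v : J, z ∈ v.1.1 ∧ v.1.1 ≤ O := by
    intro O z hz
    obtain ⟨U, V, e, hzV, hVO, -⟩ :=
      Groth.L22.Ideals.exists_affine_pair h z hz (W' := ⊤) trivial
    exact ⟨⟨V, U.1, U.2, e⟩, hzV, hVO⟩
  have hloc : ∀ v : J, ∃ (W : Scheme.{u}) (j : v.1.1.toScheme ⟶ W) (k : W ⟶ X),
      OmegaSh.IsUnivThickening (v.1.1.ι ≫ h) j k := fun v =>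
    exists_univ_of_affine v.2.choose_spec.1 v.1.2 v.2.choose_spec.2
  choose W j k hu using hloc
  have hsurj : ∀ v, Surjective (j v) := fun v => (hu v).1.1.2
  have hcl : ∀ v, IsClosedImmersion (j v) := fun v => (hu v).1.1.1
  have htr : ∀ {v w : J} (le : v.1.1 ≤ w.1.1),
      ∃! t : W v ⟶ W w, j v ≫ t = Z.homOfLE le ≫ j w ∧ t ≫ k w = k v := by
    intro v w le
    exact (hu w).2.2 _ _ (j v) (k v) (Z.homOfLE le) (hu v).1 (by
      rw [(hu v).2.1, Scheme.homOfLE_ι_assoc])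
  have htopen : ∀ {v w : J} (le : v.1.1 ≤ w.1.1) (t : W v ⟶ W w),
      (j v ≫ t = Z.homOfLE le ≫ j w ∧ t ≫ k w = k v) → IsOpenImmersion t := by
    intro v w le t ht
    have := hcl w
    obtain ⟨O, hO, hO'⟩ := (j w).isClosedEmbedding.isInducing.isOpen_iff.mp (w.1.1.ι ⁻¹ᵁ v.1.1).2
    let O' : (W w).Opens := ⟨O, hO⟩
    have hO'' : j w ⁻¹ᵁ O' = w.1.1.ι ⁻¹ᵁ v.1.1 := SetLike.coe_injective hO'
    have hr : Set.range ((j w ⁻¹ᵁ O').ι ≫ w.1.1.ι) = Set.range v.1.1.ι := by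
      rw [Scheme.Opens.range_ι, Scheme.Hom.comp_base, TopCat.coe_comp, Set.range_comp,
        Scheme.Opens.range_ι, hO'']
      refine Set.ext fun x => ⟨?_, fun hx => ⟨⟨x, le hx⟩, hx, rfl⟩⟩
      rintro ⟨y, hy, rfl⟩
      exact hy
    let e := IsOpenImmersion.isoOfRangeEq v.1.1.ι ((j w ⁻¹ᵁ O').ι ≫ w.1.1.ι) hr.symm
    have he : e.hom ≫ (j w ⁻¹ᵁ O').ι ≫ w.1.1.ι = v.1.1.ι :=
      IsOpenImmersion.isoOfRangeEq_hom_fac _ _ _
    have hu' : OmegaSh.IsUnivThickening (v.1.1.ι ≫ h) (e.hom ≫ j w ∣_ O') (O'.ι ≫ k w) :=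
      isUniv_of_iso (isUniv_restrict (hu w) O') e (Iso.refl _)
        (by rw [← Category.assoc, ← Category.assoc, Category.assoc e.hom, he]) (by simp) (by simp)
    obtain ⟨ε, hε1, hε2⟩ := exists_iso_of_isUniv (hu v) hu'
    have : t = ε.hom ≫ O'.ι := (htr le).unique ht ⟨by
      rw [reassoc_of% hε1, morphismRestrict_ι, ← Category.assoc]
      congr 1
      rw [← cancel_mono w.1.1.ι, Category.assoc, he, Scheme.homOfLE_ι],
      by rw [Category.assoc, hε2]⟩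
    rw [this]; infer_instance
  choose t ht htu using fun (v w : J) (le : v.1.1 ≤ w.1.1) => htr le
  let F : J ⥤ Scheme.{u} :=
    { obj := W
      map := fun {v w} f => t v w f.le
      map_id := fun v => ((htu v v le_rfl) (𝟙 _) ⟨by simp, Category.id_comp _⟩).symm
      map_comp := fun {a b c} f g => ((htu a c (f.le.trans g.le)) (t a b f.le ≫ t b c g.le)
        ⟨by rw [reassoc_of% (ht a b f.le).1, (ht b c g.le).1, Scheme.homOfLE_homOfLE_assoc],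
         by rw [Category.assoc, (ht b c g.le).2, (ht a b f.le).2]⟩).symm }
  have hFopen : ∀ {v w} (f : v ⟶ w), IsOpenImmersion (F.map f) := fun {v w} f =>
    htopen f.le _ (ht _ _ _)
  have hpt : ∀ {v w : J} (le : v.1.1 ≤ w.1.1) (x : v.1.1.toScheme),
      t v w le (j v x) = j w (Z.homOfLE le x) := fun {v w} le x => by
    rw [← Scheme.Hom.comp_apply, (ht v w le).1, Scheme.Hom.comp_apply]
  have hval : ∀ {O P : Z.Opens} (le : O ≤ P) (x : O.toScheme), P.ι (Z.homOfLE le x) = O.ι x :=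
    fun le x => by rw [← Scheme.Hom.comp_apply, Scheme.homOfLE_ι]
  have : (F ⋙ Scheme.forget).IsLocallyDirected := ⟨fun {a b c} fa fb xa xb hab => by
    obtain ⟨za, rfl⟩ := (j a).surjective xa
    obtain ⟨zb, rfl⟩ := (j b).surjective xb
    have hab' : t a c fa.le (j a za) = t b c fb.le (j b zb) := hab
    rw [hpt, hpt] at hab'
    have h2 := congrArg c.1.1.ι ((j c).isClosedEmbedding.injective hab')
    rw [hval, hval] at h2
    have hz : (a.1.1.ι za) ∈ a.1.1 ⊓ b.1.1 := ⟨za.2, h2 ▸ zb.2⟩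
    obtain ⟨v, hv, hle⟩ := hJ _ _ hz
    refine ⟨v, homOfLE (hle.trans inf_le_left), homOfLE (hle.trans inf_le_right),
      j v ⟨_, hv⟩, ?_, ?_⟩
    · show t v a (hle.trans inf_le_left) (j v ⟨_, hv⟩) = j a za
      rw [hpt]
      congr 1
      apply a.1.1.ι.isOpenEmbedding.injective
      rw [hval]; rfl
    · show t v b (hle.trans inf_le_right) (j v ⟨_, hv⟩) = j b zb
      rw [hpt]
      congr 1
      apply b.1.1.ι.isOpenEmbedding.injective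
      rw [hval]; exact h2⟩
  have hcov : ⨆ v : J, v.1.1 = ⊤ := eq_top_iff.mpr fun z _ => by
    obtain ⟨v, hv, -⟩ := hJ ⊤ z trivial
    exact Opens.mem_iSup.mpr ⟨v, hv⟩
  let 𝒰 := Z.openCoverOfIsOpenCover (fun v : J => v.1.1) hcov
  let g : ∀ v : J, v.1.1.toScheme ⟶ colimit F := fun v => j v ≫ colimit.ι F v
  have hg : ∀ {v w : J} (le : v.1.1 ≤ w.1.1), Z.homOfLE le ≫ g w = g v := fun {v w} le => by
    show Z.homOfLE le ≫ j w ≫ colimit.ι F w = j v ≫ colimit.ι F v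
    rw [← colimit.w F (homOfLE le : v ⟶ w)]
    exact ((reassoc_of% (ht v w le).1) (colimit.ι F w)).symm
  have hg' : ∀ v w : J, pullback.fst v.1.1.ι w.1.1.ι ≫ g v = pullback.snd v.1.1.ι w.1.1.ι ≫ g w := by
    intro a b
    generalize hP : pullback.fst a.1.1.ι b.1.1.ι = p
    generalize hQ : pullback.snd a.1.1.ι b.1.1.ι = q
    have hc : p ≫ a.1.1.ι = q ≫ b.1.1.ι := by rw [← hP, ← hQ, pullback.condition]
    let K := {v : J // v.1.1 ≤ a.1.1 ∧ v.1.1 ≤ b.1.1}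
    refine (Scheme.openCoverOfIsOpenCover _ (fun v : K => (p ≫ a.1.1.ι) ⁻¹ᵁ v.1.1.1)
      (eq_top_iff.mpr fun x _ => ?_)).hom_ext _ _ fun v => ?_
    · have hx : (p ≫ a.1.1.ι) x ∈ a.1.1 ⊓ b.1.1 := by
        refine ⟨?_, ?_⟩
        · rw [Scheme.Hom.comp_apply]; exact (p x).2
        · rw [hc, Scheme.Hom.comp_apply]; exact (q x).2
      obtain ⟨v, hv, hle⟩ := hJ _ _ hx
      exact Opens.mem_iSup.mpr ⟨⟨v, hle.trans inf_le_left, hle.trans inf_le_right⟩, hv⟩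
    · show ((p ≫ a.1.1.ι) ⁻¹ᵁ v.1.1.1).ι ≫ p ≫ g a = ((p ≫ a.1.1.ι) ⁻¹ᵁ v.1.1.1).ι ≫ q ≫ g b
      let l := IsOpenImmersion.lift v.1.1.1.ι (((p ≫ a.1.1.ι) ⁻¹ᵁ v.1.1.1).ι ≫ p ≫ a.1.1.ι) (by
        rw [Scheme.Opens.range_ι]; rintro _ ⟨x, rfl⟩; exact x.2)
      have h1 : ((p ≫ a.1.1.ι) ⁻¹ᵁ v.1.1.1).ι ≫ p = l ≫ Z.homOfLE v.2.1 := by
        rw [← cancel_mono a.1.1.ι]; simp [l]
      have h2 : ((p ≫ a.1.1.ι) ⁻¹ᵁ v.1.1.1).ι ≫ q = l ≫ Z.homOfLE v.2.2 := by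
        rw [← cancel_mono b.1.1.ι]; simp [l, ← hc]
      rw [reassoc_of% h1, reassoc_of% h2, hg, hg]
  let i : Z ⟶ colimit F := 𝒰.glueMorphisms g hg'
  have hi : ∀ v : J, v.1.1.ι ≫ i = j v ≫ colimit.ι F v := fun v => 𝒰.ι_glueMorphisms g hg' v
  let k' : colimit F ⟶ X := colimit.desc F
    { pt := X
      ι :=
        { app := k
          naturality := fun v w f => by
            show t v w f.le ≫ k w = k v ≫ 𝟙 X
            rw [Category.comp_id, (ht v w f.le).2] } }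
  have hk : ∀ v : J, colimit.ι F v ≫ k' = k v := fun v => colimit.ι_desc _ v
  have hpre : ∀ v : J, i ⁻¹ᵁ (colimit.ι F v).opensRange = v.1.1 := fun v => by
    refine Opens.ext (Set.ext fun z => ⟨fun hz => ?_, fun hz => ?_⟩)
    · obtain ⟨y, hy⟩ := hz
      obtain ⟨zv, rfl⟩ := (j v).surjective y
      obtain ⟨w, hw, -⟩ := hJ ⊤ z trivial
      have h1 : colimit.ι F v (j v zv) = colimit.ι F w (j w ⟨z, hw⟩) := by
        refine Eq.trans hy ?_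
        show i (w.1.1.ι ⟨z, hw⟩) = _
        rw [← Scheme.Hom.comp_apply, hi, Scheme.Hom.comp_apply]
      obtain ⟨K, fv, fw, x, hx1, hx2⟩ := (Scheme.IsLocallyDirected.ι_eq_ι_iff F).mp h1
      obtain ⟨zk, rfl⟩ := (j K).surjective x
      have hx1' : t K v fv.le (j K zk) = j v zv := hx1
      have hx2' : t K w fw.le (j K zk) = j w ⟨z, hw⟩ := hx2
      rw [hpt] at hx1' hx2'
      have e1 := congrArg v.1.1.ι ((j v).isClosedEmbedding.injective hx1')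
      have e2 := congrArg w.1.1.ι ((j w).isClosedEmbedding.injective hx2')
      rw [hval] at e1 e2
      have e3 : v.1.1.ι zv = z := e1.symm.trans e2
      exact e3 ▸ zv.2
    · refine ⟨j v ⟨z, hz⟩, ?_⟩
      show colimit.ι F v (j v ⟨z, hz⟩) = i (v.1.1.ι ⟨z, hz⟩)
      rw [← Scheme.Hom.comp_apply, ← Scheme.Hom.comp_apply, hi]
  have hcov' : ⨆ v : J, (colimit.ι F v).opensRange = ⊤ := eq_top_iff.mpr fun x _ => by
    obtain ⟨v, y, hy⟩ := Scheme.IsLocallyDirected.ι_jointly_surjective F x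
    exact Opens.mem_iSup.mpr ⟨v, y, hy⟩
  have hres : ∀ v : J, OmegaSh.IsUnivThickening ((i ⁻¹ᵁ (colimit.ι F v).opensRange).ι ≫ h)
      (i ∣_ (colimit.ι F v).opensRange) ((colimit.ι F v).opensRange.ι ≫ k') := fun v => by
    refine isUniv_of_iso (hu v) (Z.isoOfEq (hpre v)) (colimit.ι F v).isoOpensRange.symm
      ?_ ?_ ?_
    · simp
    · rw [Iso.symm_hom, ← cancel_mono (colimit.ι F v)]
      simp only [Category.assoc, Scheme.Hom.isoOpensRange_inv_comp]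
      rw [morphismRestrict_ι, ← hi, Scheme.isoOfEq_hom_ι_assoc]
    · rw [Iso.symm_hom, ← hk, Scheme.Hom.isoOpensRange_inv_comp_assoc]
  have : IsClosedImmersion i :=
    IsZariskiLocalAtTarget.of_iSup_eq_top (fun v : J => (colimit.ι F v).opensRange) hcov'
      fun v => (hres v).1.1.1
  have : Surjective i := IsZariskiLocalAtTarget.of_iSup_eq_top
    (fun v : J => (colimit.ι F v).opensRange) hcov' fun v => (hres v).1.1.2
  have hsq : i.ker * i.ker = ⊥ := eq_bot_of_cover _ _ hcov' fun v => by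
    rw [Groth.L22.Ideals.comap_mul,
      ← Groth.L17.Thick.ker_of_isPullback (isPullback_morphismRestrict i _)]
    exact (hres v).1.2
  refine ⟨colimit F, i, k', isUniv_of_cover (mk_firstOrder hsq) ?_ _ hcov' hres⟩
  refine 𝒰.hom_ext _ _ fun v => ?_
  show v.1.1.ι ≫ i ≫ k' = v.1.1.ι ≫ h
  rw [reassoc_of% hi v, hk, (hu v).2.1]

theorem formallyUnramified_of_isUniv (hu : OmegaSh.IsUnivThickening h i h') :
    FormallyUnramified h' := by
  obtain ⟨⟨⟨_, _⟩, _⟩, hw, _⟩ := id hu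
  refine ⟨fun {U} hU {V'} hV' e => ?_⟩
  have hV : IsAffineOpen (i ⁻¹ᵁ V') := hV'.preimage i
  have e' : i ⁻¹ᵁ V' ≤ h ⁻¹ᵁ U := by
    rw [← hw, Scheme.Hom.comp_preimage]
    exact i.preimage_mono e
  have hcomp : h'.appLE U V' e ≫ i.appLE V' (i ⁻¹ᵁ V') le_rfl = h.appLE U (i ⁻¹ᵁ V') e' := by
    rw [Scheme.Hom.appLE_comp_appLE]
    simp only [hw]
  have hu₁ := isUniv_resLE hu (i ⁻¹ᵁ V') U e' V' rfl e
  have hu₂ : OmegaSh.IsUnivThickening (Spec.map (h.appLE U (i ⁻¹ᵁ V') e'))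
      (Spec.map (i.appLE V' (i ⁻¹ᵁ V') le_rfl)) (Spec.map (h'.appLE U V' e)) := by
    refine isUniv_of_iso (isUniv_comp hu₁ hU.isoSpec.hom) hV.isoSpec.symm hV'.isoSpec.symm ?_ ?_ ?_
    · rw [← cancel_mono hU.fromSpec, hU.SpecMap_appLE_fromSpec h hV e', ← hV.isoSpec_inv_ι,
        ← hU.isoSpec_inv_ι]
      simp
    · rw [← cancel_mono V'.ι, Iso.symm_hom, Iso.symm_hom, Category.assoc, hV'.isoSpec_inv_ι,
        hV'.SpecMap_appLE_fromSpec i hV le_rfl, ← hV.isoSpec_inv_ι]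
      simp
    · rw [← cancel_mono hU.fromSpec, hU.SpecMap_appLE_fromSpec h' hV' e, ← hV'.isoSpec_inv_ι,
        ← hU.isoSpec_inv_ι]
      simp
  letI := (h.appLE U (i ⁻¹ᵁ V') e').hom.toAlgebra
  letI := (h'.appLE U V' e).hom.toAlgebra
  exact formallyUnramified (ringUniv_of_specUniv hu₂ hcomp)

end Groth.L19.Thick
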