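import Groth.Agent.L19.H1Sheaf.Immersion
import Groth.Agent.L19.Thick.Glue
import Groth.Agent.L20.ThickAffine

/-!
# Sections of the conormal sheaf of a first order thickening
-/

set_option autoImplicit false
set_option linter.style.haveILetI false
set_option backward.isDefEq.respectTransparency.types false
set_option backward.isDefEq.respectTransparency false

universe u

open CategoryTheory AlgebraicGeometry TopologicalSpace

noncomputable section

namespace Groth.L19.Thick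

open Groth.L18.Frame (ro rs ro_self)
open _root_.OmegaSh (idealSect conormalSect)
open Groth.L19.OmegaSh (idl app_idealSect)
open Groth.L19.H1Sheaf

variable {Z Z' X : Scheme.{u}}

/-- A section of the ideal with zero class vanishes. -/
theorem idealSect_eq_zero_of_conormalSect_eq_zero {i : Z ⟶ Z'} (hi : MoreMor.IsFirstOrderThickening i)
    {W : Z'.Opens} (hW : IsAffineOpen W) (s : Γ(idl i, W)) (h : conormalSect i W s = 0) :
    idealSect i.ker W s = 0 := by
  haveI : IsClosedImmersion i := hi.1.1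
  let c : Chart i := ⟨⟨i ⁻¹ᵁ W, hW.preimage i⟩, ⟨W, hW⟩, le_rfl⟩
  have hc : c.IsClosedChart := ⟨rfl, i.app_surjective W hW⟩
  obtain ⟨α, hα⟩ := exists_toH1 i
  have h1 : idlVal W s = idlVal W (0 : Γ(idl i, W)) := by
    rw [← hα, ← hα, h, map_zero (conormalSect i W).hom]
  have hz : ∀ t : Γ(idl i, W), i.appLE c.V c.U c.e (idealSect i.ker W t) = 0 := fun t => by
    show ro c.e (i.app W (idealSect i.ker W t)) = 0
    rw [app_idealSect]
    exact map_zero _
  have h2 := congrArg (fun x : fam i (i ⁻¹ᵁ W) => x.1 ⟨c, le_rfl⟩) h1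
  have hval : ∀ t : Γ(idl i, W),
      (idlVal W t).1 ⟨c, le_rfl⟩ = c.clsC (idealSect i.ker W t) (hz t) := fun t =>
    ((idlSeed W t).val_eq (idlSeed_covers W t ⟨c, le_rfl⟩) le_rfl).trans
      (c.clsC_congr (ro_self _ _) (appLE_ro_eq_zero _ (app_idealSect i W t) c le_rfl) (hz t))
  have h3 := hc.sub_mem_sq _ _ (hz s) (hz 0) ((hval s).symm.trans (h2.trans (hval 0)))
  rw [map_zero (idealSect i.ker W), sub_zero] at h3
  have hsq := congrArg (fun J => J.ideal ⟨W, hW⟩) hi.2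
  simp only [Scheme.IdealSheafData.ideal_mul, Pi.mul_apply, Scheme.IdealSheafData.ideal_bot, Pi.bot_apply,
    Scheme.Hom.ker_apply] at hsq
  rw [pow_two, hsq, Ideal.mem_bot] at h3
  exact h3

/-- An affine open of a thickening is determined by, and determines, an affine open of the reduced scheme. -/
theorem exists_affine_of_preimage {i : Z ⟶ Z'} (hi : MoreMor.IsFirstOrderThickening i) {U : Z.Opens}
    (hU : IsAffineOpen U) : ∃ W : Z'.Opens, IsAffineOpen W ∧ i ⁻¹ᵁ W = U := by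
  haveI : IsClosedImmersion i := hi.1.1
  haveI : Surjective i := hi.1.2
  obtain ⟨O, hO, hOU⟩ := i.isEmbedding.isInducing.isOpen_iff.mp U.2
  refine ⟨⟨O, hO⟩, ?_, Opens.ext hOU⟩
  have e : i ⁻¹ᵁ ⟨O, hO⟩ = U := Opens.ext hOU
  haveI : IsAffine (i ⁻¹ᵁ (⟨O, hO⟩ : Z'.Opens) : Z.Opens).toScheme := e ▸ hU
  exact Groth.L20.ThickAffine.isAffine_of_surjective (i ∣_ ⟨O, hO⟩) (firstOrder_restrict hi _).1.2.surj

variable {i : Z ⟶ Z'} {h : Z ⟶ X} {h' : Z' ⟶ X}

/-- Universality on a pair of affine opens. -/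
theorem ringUniv_appLE (hu : OmegaSh.IsUnivThickening h i h') {U : X.Opens} (hU : IsAffineOpen U)
    {V' : Z'.Opens} (hV' : IsAffineOpen V') (e : V' ≤ h' ⁻¹ᵁ U) (e' : i ⁻¹ᵁ V' ≤ h ⁻¹ᵁ U)
    (hcomp : h'.appLE U V' e ≫ i.appLE V' (i ⁻¹ᵁ V') le_rfl = h.appLE U (i ⁻¹ᵁ V') e') :
    letI := (h.appLE U (i ⁻¹ᵁ V') e').hom.toAlgebra
    letI := (h'.appLE U V' e).hom.toAlgebra
    OmegaSh.IsUnivThickeningRing Γ(X, U) Γ(Z, i ⁻¹ᵁ V') Γ(Z', V')
      { toRingHom := (i.appLE V' (i ⁻¹ᵁ V') le_rfl).hom, commutes' := fun r => congr($hcomp r) } := by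
  haveI : IsClosedImmersion i := hu.1.1.1
  have hV : IsAffineOpen (i ⁻¹ᵁ V') := hV'.preimage i
  have hu₁ := isUniv_resLE hu (i ⁻¹ᵁ V') U e' V' rfl e
  have hu₂ : OmegaSh.IsUnivThickening (Spec.map (h.appLE U (i ⁻¹ᵁ V') e'))
      (Spec.map (i.appLE V' (i ⁻¹ᵁ V') le_rfl)) (Spec.map (h'.appLE U V' e)) := by
    refine isUniv_of_iso (isUniv_comp hu₁ hU.isoSpec.hom) hV.isoSpec.symm hV'.isoSpec.symm ?_ ?_ ?_
    · rw [← cancel_mono hU.fromSpec, hU.SpecMap_appLE_fromSpec h hV e', ← hV.isoSpec_inv_ι,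
        ← hU.isoSpec_inv_ι]
      simp
    · rw [← cancel_mono V'.ι, Iso.symm_hom, Iso.symm_hom, Category.assoc, hV'.isoSpec_inv_ι,
        hV'.SpecMap_appLE_fromSpec i hV le_rfl, ← hV.isoSpec_inv_ι]
      simp
    · rw [← cancel_mono hU.fromSpec, hU.SpecMap_appLE_fromSpec h' hV' e, ← hV'.isoSpec_inv_ι,
        ← hU.isoSpec_inv_ι]
      simp
  exact ringUniv_of_specUniv hu₂ hcomp

end Groth.L19.Thick
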