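import Groth.Agent.L19.Thick.Affine
import Groth.Agent.L19.OmegaSh.Lift
import Groth.Agent.L19.OmegaSh.Rebase

/-!
# Differentials of a universal thickening restricted to the closed subscheme
-/

set_option autoImplicit false
set_option linter.style.haveILetI false
set_option backward.isDefEq.respectTransparency.types false
set_option backward.isDefEq.respectTransparency false

universe u

open CategoryTheory CategoryTheory.Limits AlgebraicGeometry TopologicalSpace Opposite

noncomputable section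

namespace Groth.L19.Thick

open Groth.L18.Frame (rs ro)
open _root_.OmegaSh (Der IsUniversal IsDiffCompat)
open Groth.L19.OmegaSh (L prL resL inlL mk fst' snd' fst_mk ePt ePt_base ePt_indep resL_ePt prL_ePt resL_prL inlL_prL
  dPt prL_dPt dPt_comp pushDerSq pushDerSq_eq_of_points der_ext_points PointFam Good exists_good
  isDiffCompat_iff isDiffCompat_postcomp existsUnique_diffCompat)

variable {Z Z' X S : Scheme.{u}} {h : Z ⟶ X} {i : Z ⟶ Z'} {h' : Z' ⟶ X}

/-- Extending points over the trivial square-zero extension by a module on the closed subscheme. -/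
theorem existsUnique_point (hu : _root_.OmegaSh.IsUnivThickening h i h') (M : Z.Modules) (U : Z'.affineOpens)
    (b : Spec (L ((Scheme.Modules.pushforward i).obj M) U.1) ⟶ X)
    (hb : Spec.map (prL ((Scheme.Modules.pushforward i).obj M) U.1) ≫ b = U.2.fromSpec ≫ h') :
    ∃! l : Spec (L ((Scheme.Modules.pushforward i).obj M) U.1) ⟶ Z',
      Spec.map (prL ((Scheme.Modules.pushforward i).obj M) U.1) ≫ l = U.2.fromSpec ∧ l ≫ h' = b := by
  obtain ⟨⟨⟨hcl, hsur⟩, hsq⟩, hw, hex⟩ := hu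
  let G := (Scheme.Modules.pushforward i).obj M
  have hV : IsAffineOpen (i ⁻¹ᵁ U.1) := U.2.preimage i
  have hkerU : RingHom.ker (i.app U.1).hom * RingHom.ker (i.app U.1).hom = ⊥ := by
    have h3 := congrArg (fun J => J.ideal U) hsq
    simpa only [Scheme.IdealSheafData.ideal_mul, Pi.mul_apply, Scheme.IdealSheafData.ideal_bot, Pi.bot_apply,
      Scheme.Hom.ker_apply] using h3
  have hsurjU : Function.Surjective (i.app U.1).hom := i.app_surjective _ U.2
  have hj : MoreMor.IsFirstOrderThickening (Spec.map (prL G U.1 ≫ i.app U.1)) := by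
    refine isFirstOrder_specMap _ (fun v => ?_) ?_
    · obtain ⟨a, ha⟩ := hsurjU v
      refine ⟨mk G U.1 a 0, ?_⟩
      show i.app U.1 (fst' G (mk G U.1 a 0)) = v
      rw [fst_mk]
      exact ha
    · rw [eq_bot_iff, pow_two, Ideal.mul_le]
      intro x hx y hy
      have hx' : fst' G x ∈ RingHom.ker (i.app U.1).hom := hx
      have hy' : fst' G y ∈ RingHom.ker (i.app U.1).hom := hy
      rw [Ideal.mem_bot]
      refine Groth.L19.OmegaSh.ext G ?_ ?_
      · rw [Groth.L19.OmegaSh.fst_mul, Groth.L19.OmegaSh.fst_zero]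
        exact Ideal.mem_bot.mp (hkerU ▸ Ideal.mul_mem_mul hx' hy')
      · rw [Groth.L19.OmegaSh.snd_mul, Groth.L19.OmegaSh.snd_zero]
        show (i.app U.1 (fst' G x)) • (show Γ(M, i ⁻¹ᵁ U.1) from snd' G y) +
          (i.app U.1 (fst' G y)) • (show Γ(M, i ⁻¹ᵁ U.1) from snd' G x) = 0
        rw [show i.app U.1 (fst' G x) = 0 from hx', show i.app U.1 (fst' G y) = 0 from hy', zero_smul,
          zero_smul, add_zero]
  have hfs : Spec.map (i.app U.1) ≫ U.2.fromSpec = hV.fromSpec ≫ i := by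
    rw [Scheme.Hom.app_eq_appLE, IsAffineOpen.SpecMap_appLE_fromSpec i U.2 hV le_rfl]
  have hcond : Spec.map (prL G U.1 ≫ i.app U.1) ≫ b = hV.fromSpec ≫ h := by
    rw [Spec.map_comp, Category.assoc, hb, ← Category.assoc, hfs, Category.assoc, hw]
  obtain ⟨l, ⟨hl1, hl2⟩, hlu⟩ := hex _ _ _ b hV.fromSpec hj hcond
  have hj0 : MoreMor.IsFirstOrderThickening (Spec.map (i.app U.1)) :=
    isFirstOrder_specMap _ hsurjU (by rw [pow_two]; exact hkerU)
  obtain ⟨l₀, -, hl₀⟩ := hex _ _ _ (U.2.fromSpec ≫ h') hV.fromSpec hj0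
    (by rw [← Category.assoc, hfs, Category.assoc, hw])
  have hlp : Spec.map (prL G U.1) ≫ l = U.2.fromSpec := by
    rw [hl₀ (Spec.map (prL G U.1) ≫ l) ⟨by rw [← Category.assoc, ← Spec.map_comp, hl1],
        by rw [Category.assoc, hl2, hb]⟩,
      hl₀ U.2.fromSpec ⟨hfs, rfl⟩]
  refine ⟨l, ⟨hlp, hl2⟩, fun v hv => hlu v ⟨?_, hv.2⟩⟩
  rw [Spec.map_comp, Category.assoc, hv.1, hfs]

/-- Derivations into modules on the closed subscheme extend uniquely along the universal thickening. -/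
theorem bijective_pushDerSq_of_isUniv (hu : _root_.OmegaSh.IsUnivThickening h i h') (q : X ⟶ S)
    (hsq : (h' ≫ q) ≫ 𝟙 S = h' ≫ q) (M : Z.Modules) :
    Function.Bijective (fun D : Der (h' ≫ q) ((Scheme.Modules.pushforward i).obj M) =>
      pushDerSq h' (𝟙 S) hsq D) := by
  let G := (Scheme.Modules.pushforward i).obj M
  let P : Z'.affineOpens → Prop := fun U => ∃ W : X.affineOpens, Good q W ∧ U.1 ≤ h' ⁻¹ᵁ W.1
  have hP : ∀ (x : Z') (O : Z'.Opens), x ∈ O → ∃ U, P U ∧ x ∈ U.1 ∧ U.1 ≤ O := by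
    intro x O hx
    obtain ⟨W, hW, hxW, -⟩ := exists_good (f := q) (h' x) ⊤ trivial
    obtain ⟨U, -, hxU, hUle⟩ := exists_good (f := h' ≫ q) x (O ⊓ h' ⁻¹ᵁ W.1) ⟨hx, hxW⟩
    exact ⟨U, ⟨W, hW, hUle.trans inf_le_right⟩, hxU, hUle.trans inf_le_left⟩
  constructor
  · intro D₁ D₂ h12
    refine der_ext_points D₁ D₂ P hP fun U hU => ?_
    obtain ⟨W, -, e⟩ := hU
    have h12' : pushDerSq h' (𝟙 S) hsq D₁ = pushDerSq h' (𝟙 S) hsq D₂ := h12
    have hb : Spec.map (prL G U.1) ≫ dPt D₂ U ≫ h' = U.2.fromSpec ≫ h' := by rw [← Category.assoc, prL_dPt]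
    exact (existsUnique_point hu M U _ hb).unique
      ⟨prL_dPt D₁ U, by rw [dPt_comp hsq D₁ U W e, dPt_comp hsq D₂ U W e, h12']⟩ ⟨prL_dPt D₂ U, rfl⟩
  · intro E
    have hl : ∀ (U : Z'.affineOpens) (p : P U), ∃ l : Spec (L G U.1) ⟶ Z',
        Spec.map (prL G U.1) ≫ l = U.2.fromSpec ∧ l ≫ h' = ePt E U p.choose p.choose_spec.2 := fun U p =>
      (existsUnique_point hu M U _ (prL_ePt E U _ _)).exists
    have hres : ∀ (U U' : Z'.affineOpens) (p : P U) (p' : P U') (hle : U'.1 ≤ U.1),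
        Spec.map (resL G hle) ≫ (hl U p).choose = (hl U' p').choose := by
      intro U U' p p' hle
      refine (existsUnique_point hu M U' _ (prL_ePt E U' p'.choose p'.choose_spec.2)).unique
        ⟨?_, ?_⟩ (hl U' p').choose_spec
      · rw [← Spec.map_comp_assoc, resL_prL, Spec.map_comp_assoc, (hl U p).choose_spec.1,
          IsAffineOpen.map_fromSpec]
      · rw [Category.assoc, (hl U p).choose_spec.2, resL_ePt]
        exact ePt_indep E U' _ _ _ _
    let F : PointFam (h' ≫ q) G :=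
      { P := P
        exists_P := hP
        r := fun U p => (hl U p).choose
        prL_r := fun U p => (hl U p).choose_spec.1
        resL_r := hres
        r_base := fun U p => by
          rw [← Category.assoc, (hl U p).choose_spec.2, ePt_base E U _ _ p.choose_spec.1] }
    exact ⟨F.der, pushDerSq_eq_of_points hsq F.der E P hP fun U p =>
      ⟨p.choose, p.choose_spec.2, by rw [F.dPt_der U p]; exact (hl U p).choose_spec.2⟩⟩

/-- `i^* h'^* Ω_{X/S} ⟶ i^* Ω_{Z'/S}` is an isomorphism. -/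
theorem isIso_pullback_diffCompat (hu : _root_.OmegaSh.IsUnivThickening h i h') (q : X ⟶ S)
    {ΩX : X.Modules} {dX : Der q ΩX} (hdX : IsUniversal dX)
    {ΩZ' : Z'.Modules} {dZ' : Der (h' ≫ q) ΩZ'} (hdZ' : IsUniversal dZ')
    {c : (Scheme.Modules.pullback h').obj ΩX ⟶ ΩZ'} (hc : IsDiffCompat h' dX dZ' c) :
    IsIso ((Scheme.Modules.pullback i).map c) := by
  have hsq : (h' ≫ q) ≫ 𝟙 S = h' ≫ q := Category.comp_id _
  let adj := Scheme.Modules.pullbackPushforwardAdjunction i
  let adj' := Scheme.Modules.pullbackPushforwardAdjunction h'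
  have key : ∀ M : Z.Modules,
      Function.Bijective fun α : ΩZ' ⟶ (Scheme.Modules.pushforward i).obj M => c ≫ α := by
    intro M
    have hbij := bijective_pushDerSq_of_isUniv hu q hsq M
    have hval : ∀ α : ΩZ' ⟶ (Scheme.Modules.pushforward i).obj M,
        dX.postcomp (adj'.homEquiv _ _ (c ≫ α)).val = pushDerSq h' (𝟙 S) hsq (dZ'.postcomp α.val) := fun α =>
      (isDiffCompat_iff h' (𝟙 S) hsq dX _ _).mp (isDiffCompat_postcomp h' hc α)
    refine ⟨fun α β hαβ => ?_, fun γ => ?_⟩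
    · obtain ⟨w, -, hwu⟩ := hdZ' _ (dZ'.postcomp α.val)
      have h1 : dZ'.postcomp β.val = dZ'.postcomp α.val := hbij.1 (by
        show pushDerSq h' (𝟙 S) hsq (dZ'.postcomp β.val) = pushDerSq h' (𝟙 S) hsq (dZ'.postcomp α.val)
        rw [← hval, ← hval, show c ≫ α = c ≫ β from hαβ])
      exact (hwu α rfl).trans (hwu β h1).symm
    · obtain ⟨D, hD⟩ := hbij.2 (dX.postcomp (adj'.homEquiv _ _ γ).val)
      obtain ⟨α, hα, -⟩ := hdZ' _ D
      obtain ⟨c₀, -, huniq⟩ := existsUnique_diffCompat h' (𝟙 S) hsq hdX D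
      refine ⟨α, (huniq _ ?_).trans (huniq _ ?_).symm⟩
      · exact hα ▸ isDiffCompat_postcomp h' hc α
      · exact (isDiffCompat_iff h' (𝟙 S) hsq dX D _).mpr hD.symm
  obtain ⟨g, hg⟩ := (key ((Scheme.Modules.pullback i).obj ((Scheme.Modules.pullback h').obj ΩX))).2
    (adj.homEquiv _ _ (𝟙 _))
  refine ⟨⟨(adj.homEquiv _ _).symm g, ?_, ?_⟩⟩
  · apply (adj.homEquiv _ _).injective
    rw [Adjunction.homEquiv_naturality_left, Equiv.apply_symm_apply]
    exact hg
  · apply (adj.homEquiv _ _).injective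
    refine (key _).1 ?_
    show c ≫ _ = c ≫ _
    rw [Adjunction.homEquiv_naturality_right, Equiv.apply_symm_apply, ← Category.assoc,
      show c ≫ g = _ from hg, ← Adjunction.homEquiv_naturality_right, Category.id_comp,
      ← Adjunction.homEquiv_naturality_left, Category.comp_id]

end Groth.L19.Thick
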