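import Groth.Agent.L19.Thick.LciConormal
import Groth.Agent.L19.Thick.ConormalInj
import Groth.Agent.L20.ModStalk
import Groth.Agent.L19.LocFreeDescent
import Groth.Agent.L07.KoszulLCI

/-!
# The conormal sheaf of the universal thickening of a local complete intersection
-/

set_option autoImplicit false
set_option linter.style.haveILetI false
set_option backward.isDefEq.respectTransparency.types false
set_option backward.isDefEq.respectTransparency false

universe u

open CategoryTheory AlgebraicGeometry TopologicalSpace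

noncomputable section

namespace Groth.L19.Thick

open Groth.L18.Frame (ro rs ro_self rs_rs rs_self)
open _root_.OmegaSh (idealSect conormalSect)
open Groth.L19.OmegaSh (idl app_idealSect idealSect_smul idealSect_injective conormalSect_smul exists_idealSect)
open Groth.L19.H1Sheaf

variable {X Y X' : Scheme.{u}}

theorem isQCoh_conormal {i : X ⟶ X'} [IsImmersion i] [QuasiCompact i] : Coh.IsQCoh (Omega.conormal i) := by
  obtain ⟨e, -⟩ := exists_iso_toH1 i
  exact isQCoh_of_h1Sheaf _ (h1SheafOfIso e (h1SheafData i))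

/-- On affine opens every class comes from the ideal. -/
theorem conormalSect_bijective {i : X ⟶ X'} (hi : MoreMor.IsFirstOrderThickening i) {W : X'.Opens}
    (hW : IsAffineOpen W) : Function.Bijective (conormalSect i W) := by
  haveI : IsClosedImmersion i := hi.1.1
  refine ⟨(injective_iff_map_eq_zero (conormalSect i W).hom).mpr fun s hs =>
    idealSect_injective (i := i) W ((idealSect_eq_zero_of_conormalSect_eq_zero hi hW s hs).trans (map_zero _).symm),
    fun y => ?_⟩
  let c : Chart i := ⟨⟨i ⁻¹ᵁ W, hW.preimage i⟩, ⟨W, hW⟩, le_rfl⟩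
  have hc : c.IsClosedChart := ⟨rfl, i.app_surjective W hW⟩
  obtain ⟨e, he⟩ := exists_iso_toH1 i
  obtain ⟨s, hs, hx⟩ := hc.exists_sect ((e.hom.app (i ⁻¹ᵁ W) y : fam i (i ⁻¹ᵁ W)).1 ⟨c, le_rfl⟩)
  refine ⟨s, (ConcreteCategory.bijective_of_isIso (e.hom.app (i ⁻¹ᵁ W))).1 ((eval_bijective c).1 ?_)⟩
  show (e.hom.app (i ⁻¹ᵁ W) (conormalSect i W s) : fam i (i ⁻¹ᵁ W)).1 ⟨c, le_rfl⟩ = _
  rw [he]
  refine Eq.trans ?_ hx
  exact ((idlSeed W s).val_eq (idlSeed_covers W s ⟨c, le_rfl⟩) le_rfl).trans (c.clsC_congr (ro_self _ _) (appLE_ro_eq_zero _ (app_idealSect i W s) c le_rfl) hs)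

theorem isFinLocFree_conormal (f : X ⟶ Y) (hf : ∀ x : X, Synt.IsKoszulAt f x) (i : X ⟶ X') (h' : X' ⟶ Y)
    (hu : OmegaSh.IsUnivThickening f i h') : FlatMod.IsFinLocFree (Omega.conormal i) := by
  classical
  obtain ⟨hi, hw, -⟩ := id hu
  haveI : IsClosedImmersion i := hi.1.1
  haveI : Coh.IsQCoh (Omega.conormal i) := isQCoh_conormal
  refine Groth.L19.PullChart.isFinLocFree_of_projective_charts _ fun x => ?_
  obtain ⟨_, ⟨UY, hUY, rfl⟩, hxY, -⟩ :=
    Y.isBasis_affineOpens.exists_subset_of_mem_open (Set.mem_univ (h' (i x))) isOpen_univ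
  obtain ⟨_, ⟨W, hW, rfl⟩, hxW, hWle⟩ :=
    X'.isBasis_affineOpens.exists_subset_of_mem_open (show i x ∈ h' ⁻¹ᵁ UY from hxY) (h' ⁻¹ᵁ UY).2
  replace hW : IsAffineOpen W := hW
  replace hWle : W ≤ h' ⁻¹ᵁ UY := hWle
  have hU : IsAffineOpen (i ⁻¹ᵁ W) := hW.preimage i
  have e' : i ⁻¹ᵁ W ≤ f ⁻¹ᵁ UY := by
    rw [← hw, Scheme.Hom.comp_preimage]
    exact i.preimage_mono hWle
  have hcomp : h'.appLE UY W hWle ≫ i.appLE W (i ⁻¹ᵁ W) le_rfl = f.appLE UY (i ⁻¹ᵁ W) e' := by
    rw [Scheme.Hom.appLE_comp_appLE]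
    simp only [hw]
  have huniv := ringUniv_appLE hu hUY hW hWle e' hcomp
  have hlci := (Groth.L07.KoszulChart.isLCI_iff f hU hUY e').mpr fun z _ => hf z
  letI := (f.appLE UY (i ⁻¹ᵁ W) e').hom.toAlgebra
  letI := (h'.appLE UY W hWle).hom.toAlgebra
  let π : Γ(X', W) →ₐ[Γ(Y, UY)] Γ(X, i ⁻¹ᵁ W) :=
    { toRingHom := (i.appLE W (i ⁻¹ᵁ W) le_rfl).hom, commutes' := fun r => congr($hcomp r) }
  obtain ⟨-, n, α, hα, hreg⟩ := hlci
  obtain ⟨hfin, hproj⟩ := finite_projective_cotangent_of_regAt (RingHom.ker α.toRingHom)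
    (Groth.L07.KoszulIdeal.isKoszulRegularIdeal_iff.mp hreg)
  have hπ : ∀ a, π a = i.app W a := fun a => by
    show i.appLE W (i ⁻¹ᵁ W) le_rfl a = _
    rw [← Scheme.Hom.app_eq_appLE]
  let eq₀ := AddEquiv.ofBijective (conormalSect i W).hom (conormalSect_bijective hi hW)
  let e : Γ(Omega.conormal i, i ⁻¹ᵁ W) →+ Γ(X', W) := (idealSect i.ker W).comp eq₀.symm.toAddMonoidHom
  obtain ⟨hNfin, hNproj⟩ := finite_projective_of_univ π huniv α hα hfin hproj e
    (fun a b h => eq₀.symm.injective (idealSect_injective (i := i) W h))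
    (fun a ha => by
      obtain ⟨s, hs⟩ := exists_idealSect i W a ((hπ a).symm.trans ha)
      exact ⟨eq₀ s, by show idealSect i.ker W (eq₀.symm (eq₀ s)) = a; rw [AddEquiv.symm_apply_apply, hs]⟩)
    (fun m => (hπ _).trans (app_idealSect i W _))
    (fun r m => by
      show idealSect i.ker W (eq₀.symm (π r • m)) = r * idealSect i.ker W (eq₀.symm m)
      rw [← idealSect_smul]
      congr 1
      refine eq₀.injective ?_
      rw [AddEquiv.apply_symm_apply, hπ]
      show _ = conormalSect i W (r • eq₀.symm m)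
      rw [conormalSect_smul]
      exact congrArg (i.app W r • ·) (eq₀.apply_symm_apply m).symm)
  let R : CommRingCat.{u} := Γ(X, i ⁻¹ᵁ W)
  let j : Spec R ⟶ X := hU.fromSpec
  haveI : ((Omega.conormal i).restrict j).IsQuasicoherent :=
    Scheme.Modules.isQuasicoherent_restrictFunctor j _
  let N' := (moduleSpecΓFunctor (R := R)).obj ((Omega.conormal i).restrict j)
  have e2 : hU.fromSpec ''ᵁ ⊤ = i ⁻¹ᵁ W := by
    rw [Scheme.Hom.image_top_eq_opensRange, hU.opensRange_fromSpec]
  let eN : N' ≃+ Γ(Omega.conormal i, i ⁻¹ᵁ W) :=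
    { toFun := fun s => rs _ e2.ge (show Γ(Omega.conormal i, hU.fromSpec ''ᵁ ⊤) from s)
      invFun := fun t => (show Γ(Omega.conormal i, hU.fromSpec ''ᵁ ⊤) from rs _ e2.le t)
      left_inv := fun s => by
        show rs _ e2.le (rs _ e2.ge (show Γ(Omega.conormal i, hU.fromSpec ''ᵁ ⊤) from s)) = _
        rw [rs_rs]
        exact rs_self _ _ _
      right_inv := fun t => by
        show rs _ e2.ge (rs _ e2.le t) = t
        rw [rs_rs]
        exact rs_self _ _ _
      map_add' := fun a b => map_add ((Omega.conormal i).presheaf.map (homOfLE e2.ge).op).hom a b }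
  let eL : N' ≃ₗ[R] Γ(Omega.conormal i, i ⁻¹ᵁ W) :=
    { eN with
      map_smul' := fun r s => Groth.L20.ModStalk.finitePresentation_sections_affine.appIso_smul
        (Omega.conormal i) hU r (show Γ(Omega.conormal i, hU.fromSpec ''ᵁ ⊤) from s) }
  haveI : Module.Finite R N' := Module.Finite.equiv eL.symm
  haveI : Module.Projective R N' := Module.Projective.of_equiv eL.symm
  refine ⟨R, j, inferInstance, N', ?_, Module.finitePresentation_of_projective _ _, inferInstance,
    ⟨(asIso ((Omega.conormal i).restrict j).fromTildeΓ).symm⟩⟩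
  rw [hU.opensRange_fromSpec]
  exact hxW

end Groth.L19.Thick
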