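import Groth.Agent.L19.Thick.Ring
import Mathlib.RingTheory.Localization.Algebra
import Mathlib.RingTheory.Nilpotent.Lemmas
import Mathlib.RingTheory.Ideal.Quotient.Nilpotent

/-!
# Localization of universal first order thickenings
-/

universe u

namespace Groth.L19.Thick

theorem isUnit_of_mk {T : Type u} [CommRing T] {I : Ideal T} (hI : I ^ 2 = ⊥) {x : T}
    (hx : IsUnit (Ideal.Quotient.mk I x)) : IsUnit x := by
  obtain ⟨y, hy⟩ := isUnit_iff_exists_inv.mp hx
  obtain ⟨y, rfl⟩ := Ideal.Quotient.mk_surjective y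
  have hn : (x * y - 1) * (x * y - 1) = 0 :=
    mul_eq_zero_of_sq hI (Ideal.Quotient.eq.mp (by simpa using hy))
      (Ideal.Quotient.eq.mp (by simpa using hy))
  refine isUnit_iff_exists_inv.mpr ⟨y * (2 - x * y), ?_⟩
  linear_combination -hn

/-- Localizing a universal thickening at a submonoid of the thickening. -/
theorem isUniv_localization {A B B' : Type u} [CommRing A] [CommRing B] [CommRing B']
    [Algebra A B] [Algebra A B'] {π : B' →ₐ[A] B}
    (hπ : OmegaSh.IsUnivThickeningRing A B B' π) (S' : Submonoid B') (S : Submonoid B)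
    (hS : S'.map π.toRingHom.toMonoidHom = S)
    (BS B'S : Type u) [CommRing BS] [CommRing B'S]
    [Algebra B BS] [IsLocalization S BS] [Algebra B' B'S] [IsLocalization S' B'S]
    [Algebra A BS] [IsScalarTower A B BS] [Algebra A B'S] [IsScalarTower A B' B'S]
    (πS : B'S →ₐ[A] BS) (hπS : ∀ x : B', πS (algebraMap B' B'S x) = algebraMap B BS (π x)) :
    OmegaSh.IsUnivThickeningRing A BS B'S πS := by
  obtain ⟨hsurj, hsq, huniv⟩ := hπ
  have hmem : ∀ t ∈ S', π t ∈ S := fun t ht => hS ▸ ⟨t, ht, rfl⟩
  refine ⟨fun y => ?_, ?_, fun T _ _ I hI a => ?_⟩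
  · obtain ⟨⟨b, s⟩, hb⟩ := IsLocalization.surj S y
    obtain ⟨b', rfl⟩ := hsurj b
    have hs2 : (s : B) ∈ S'.map π.toRingHom.toMonoidHom := by rw [hS]; exact s.2
    obtain ⟨t, ht, hts⟩ := hs2
    refine ⟨IsLocalization.mk' B'S b' ⟨t, ht⟩, ?_⟩
    have := congrArg πS (IsLocalization.mk'_spec B'S b' ⟨t, ht⟩)
    rw [map_mul, hπS, hπS] at this
    have hu : IsUnit (algebraMap B BS (π t)) := IsLocalization.map_units BS ⟨π t, hmem t ht⟩
    refine hu.mul_left_inj.mp (this.trans ?_)
    rw [show π t = (s : B) from hts]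
    exact hb.symm
  · have key : ∀ x, x ∈ RingHom.ker πS.toRingHom →
        ∃ (z : B') (s : S'), π z = 0 ∧ x = IsLocalization.mk' B'S z s := by
      intro x hx
      obtain ⟨z, s, rfl⟩ := IsLocalization.exists_mk'_eq S' x
      have h0 : algebraMap B BS (π z) = 0 := by
        rw [← hπS, ← IsLocalization.mk'_spec B'S z s, map_mul,
          show πS (IsLocalization.mk' B'S z s) = 0 from hx, zero_mul]
      obtain ⟨⟨u, hu⟩, huz⟩ := (IsLocalization.map_eq_zero_iff S BS _).mp h0
      have hu2 : u ∈ S'.map π.toRingHom.toMonoidHom := by rw [hS]; exact hu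
      obtain ⟨t, ht, rfl⟩ := hu2
      refine ⟨t * z, ⟨t, ht⟩ * s, by rw [map_mul]; exact huz, ?_⟩
      rw [IsLocalization.mk'_eq_iff_eq]
      congr 1
      simp only [Submonoid.coe_mul]
      ring
    rw [eq_bot_iff, pow_two, Ideal.mul_le]
    intro x hx y hy
    obtain ⟨z, s, hz, rfl⟩ := key x hx
    obtain ⟨z', s', hz', rfl⟩ := key y hy
    rw [Ideal.mem_bot, ← IsLocalization.mk'_mul, mul_eq_zero_of_sq hsq
      (show z ∈ RingHom.ker π.toRingHom from hz) (show z' ∈ RingHom.ker π.toRingHom from hz'),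
      IsLocalization.mk'_zero]
  · obtain ⟨w, hw, hwu⟩ := huniv T I hI (a.comp (IsScalarTower.toAlgHom A B BS))
    have hun : ∀ t : S', IsUnit (w t) := fun t => by
      refine isUnit_of_mk hI ?_
      rw [show Ideal.Quotient.mk I (w t) = a (algebraMap B BS (π t)) from DFunLike.congr_fun hw (t : B')]
      exact (IsLocalization.map_units BS ⟨π t, hmem t t.2⟩).map a
    let W : B'S →+* T := IsLocalization.lift (g := w.toRingHom) hun
    have hW : ∀ x, W (algebraMap B' B'S x) = w x := IsLocalization.lift_eq (g := w.toRingHom) hun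
    let W' : B'S →ₐ[A] T :=
      { toRingHom := W
        commutes' := fun r => by
          show W (algebraMap A B'S r) = _
          rw [IsScalarTower.algebraMap_apply A B' B'S, hW, w.commutes] }
    refine ⟨W', AlgHom.coe_ringHom_injective (IsLocalization.ringHom_ext S' (RingHom.ext fun x => ?_)),
      fun V hV => AlgHom.coe_ringHom_injective
        (IsLocalization.ringHom_ext S' (RingHom.ext fun x => ?_))⟩
    · show Ideal.Quotient.mk I (W (algebraMap B' B'S x)) = a (πS (algebraMap B' B'S x))
      rw [hW, hπS]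
      exact DFunLike.congr_fun hw x
    · show V (algebraMap B' B'S x) = W (algebraMap B' B'S x)
      rw [hW, ← hwu (V.comp (IsScalarTower.toAlgHom A B' B'S)) (AlgHom.ext fun z => ?_)]
      · rfl
      · show Ideal.Quotient.mk I (V (algebraMap B' B'S z)) = a (algebraMap B BS (π z))
        rw [← hπS]
        exact DFunLike.congr_fun hV _

/-- Passing to a localized base. -/
theorem isUniv_of_base {A AS C C' : Type u} [CommRing A] [CommRing AS] [CommRing C] [CommRing C']
    [Algebra A AS] (S : Submonoid A) [IsLocalization S AS]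
    [Algebra A C] [Algebra AS C] [IsScalarTower A AS C]
    [Algebra A C'] [Algebra AS C'] [IsScalarTower A AS C'] (π : C' →ₐ[AS] C)
    (h : OmegaSh.IsUnivThickeningRing A C C' (π.restrictScalars A)) :
    OmegaSh.IsUnivThickeningRing AS C C' π := by
  refine ⟨h.1, h.2.1, fun T _ _ I hI a => ?_⟩
  letI : Algebra A T := ((algebraMap AS T).comp (algebraMap A AS)).toAlgebra
  haveI : IsScalarTower A AS T := IsScalarTower.of_algebraMap_eq fun r => rfl
  obtain ⟨w, hw, hwu⟩ := h.2.2 T I hI (a.restrictScalars A)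
  let w' : C' →ₐ[AS] T :=
    { toRingHom := w.toRingHom
      commutes' := DFunLike.congr_fun (IsLocalization.ringHom_ext S
        (j := w.toRingHom.comp (algebraMap AS C')) (k := algebraMap AS T) (RingHom.ext fun r => by
          show w (algebraMap AS C' (algebraMap A AS r)) = _
          rw [← IsScalarTower.algebraMap_apply A AS C', w.commutes]; rfl)) }
  exact ⟨w', AlgHom.ext fun x => DFunLike.congr_fun hw x, fun V hV => AlgHom.ext fun x =>
    DFunLike.congr_fun (hwu (V.restrictScalars A) (AlgHom.ext fun z => DFunLike.congr_fun hV z)) x⟩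

end Groth.L19.Thick
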