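import Groth.Agent.L19.Thick.Ring
import Mathlib.LinearAlgebra.TensorProduct.RightExactness
import Mathlib.RingTheory.TensorProduct.Basic

/-!
# Differentials of a universal first order thickening
-/

set_option backward.isDefEq.respectTransparency.types false
set_option backward.isDefEq.respectTransparency false
set_option linter.style.haveILetI false

universe u

open TensorProduct KaehlerDifferential

namespace Groth.L19.Thick

/-- Lifting a derivation on the base to a universal first order thickening. -/
theorem exists_lift_derivation
    {A : Type u} [CommRing A] {B : Type u} [CommRing B] [Algebra A B] {B' : Type u} [CommRing B']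
    [Algebra A B'] {π : B' →ₐ[A] B} (h : OmegaSh.IsUnivThickeningRing A B B' π)
    {M : Type u} [AddCommGroup M] [Module B M] (δ : A → M)
    (hadd : ∀ a b, δ (a + b) = δ a + δ b)
    (hmul : ∀ a b, δ (a * b) = algebraMap A B a • δ b + algebraMap A B b • δ a) :
    ∃ d : B' → M, (∀ x y, d (x + y) = d x + d y) ∧
      (∀ x y, d (x * y) = π x • d y + π y • d x) ∧ ∀ a, d (algebraMap A B' a) = δ a := by
  letI : Module Bᵐᵒᵖ M := Module.compHom _ ((RingHom.id B).fromOpposite mul_comm)
  haveI : IsCentralScalar B M := ⟨fun _ _ => rfl⟩
  have h1 : δ 1 = 0 := by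
    have := hmul 1 1
    rw [mul_one, map_one, one_smul] at this
    exact left_eq_add.mp this
  have h0 : δ 0 = 0 := by
    have := hadd 0 0
    rw [add_zero] at this
    exact left_eq_add.mp this
  let φ : A →+* TrivSqZeroExt B M :=
    { toFun := fun a => TrivSqZeroExt.inl (algebraMap A B a) + TrivSqZeroExt.inr (δ a)
      map_one' := by simp [h1]
      map_mul' := fun a b => by
        refine TrivSqZeroExt.ext (by simp) ?_
        simp [hmul, op_smul_eq_smul]
      map_zero' := by simp [h0]
      map_add' := fun a b => by
        refine TrivSqZeroExt.ext (by simp) (by simp [hadd]) }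
  letI : Algebra A (TrivSqZeroExt B M) := φ.toAlgebra
  let I : Ideal (TrivSqZeroExt B M) := RingHom.ker (TrivSqZeroExt.fstHom B B M).toRingHom
  have hI : I ^ 2 = ⊥ := by
    rw [eq_bot_iff, pow_two, Ideal.mul_le]
    intro x hx y hy
    rw [RingHom.mem_ker] at hx hy
    have hx' : x.fst = 0 := hx
    have hy' : y.fst = 0 := hy
    exact TrivSqZeroExt.ext (by simp [hx']) (by simp [hx', hy'])
  let a : B →ₐ[A] TrivSqZeroExt B M ⧸ I :=
    { toRingHom := (Ideal.Quotient.mk I).comp (TrivSqZeroExt.inlHom B _)
      commutes' := fun r => by
        refine Ideal.Quotient.eq.mpr ?_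
        rw [RingHom.mem_ker]
        show (TrivSqZeroExt.inl (algebraMap A B r) - φ r).fst = 0
        simp [φ] }
  obtain ⟨w, hw, -⟩ := h.2.2 _ I hI a
  have hfst : ∀ x, (w x).fst = π x := fun x => by
    have h1 : (w x - TrivSqZeroExt.inl (π x)).fst = 0 :=
      Ideal.Quotient.eq.mp (DFunLike.congr_fun hw x)
    simpa [sub_eq_zero] using h1
  refine ⟨fun x => (w x).snd, fun x y => by simp, fun x y => ?_, fun r => ?_⟩ <;> beta_reduce
  · simp only [map_mul, TrivSqZeroExt.snd_mul, op_smul_eq_smul, hfst]
  · rw [w.commutes]
    show (φ r).snd = _
    simp [φ]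

theorem exists_lift_kaehler
    {R : Type u} [CommRing R] {A : Type u} [CommRing A] [Algebra R A] {B : Type u} [CommRing B]
    [Algebra A B] {B' : Type u} [CommRing B'] [Algebra A B']
    [Algebra R B'] [IsScalarTower R A B'] [Algebra B' B] [IsScalarTower A B' B]
    (h : OmegaSh.IsUnivThickeningRing A B B' (IsScalarTower.toAlgHom A B' B))
    {M : Type u} [AddCommGroup M] [Module B M] [Module A M] [IsScalarTower A B M]
    [Module B' M] [IsScalarTower B' B M] [Module R M] [IsScalarTower R A M]
    [IsScalarTower R B' M]
    (δ : Derivation R A M) :
    ∃ L : Ω[B'⁄R] →ₗ[B'] M, ∀ a, L (D R B' (algebraMap A B' a)) = δ a := by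
  obtain ⟨dd, hdd, hmul, hA⟩ := exists_lift_derivation (M := M) h (fun a => δ a)
    (fun a b => map_add δ a b) (fun a b => by rw [δ.leibniz, algebraMap_smul, algebraMap_smul])
  have hx : ∀ (x : B') (m : M), IsScalarTower.toAlgHom A B' B x • m = x • m := fun x m => by
    rw [IsScalarTower.toAlgHom_apply, algebraMap_smul]
  let d : Derivation R B' M := Derivation.mk'
    { toFun := dd
      map_add' := hdd
      map_smul' := fun r x => by
        rw [RingHom.id_apply, Algebra.smul_def, hmul, IsScalarTower.algebraMap_apply R A B', hA,
          Derivation.map_algebraMap, smul_zero, add_zero, IsScalarTower.toAlgHom_apply,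
          ← IsScalarTower.algebraMap_apply A B' B, algebraMap_smul, algebraMap_smul] }
    (fun x y => by
      show dd (x * y) = x • dd y + y • dd x
      rw [hmul, hx, hx])
  refine ⟨d.liftKaehlerDifferential, fun a => ?_⟩
  rw [d.liftKaehlerDifferential_comp_D]
  exact hA a

theorem baseChange_bijective
    {R : Type u} [CommRing R] {A : Type u} [CommRing A] [Algebra R A] {B : Type u} [CommRing B]
    [Algebra A B] {B' : Type u} [CommRing B'] [Algebra A B']
    [Algebra R B'] [IsScalarTower R A B'] [Algebra B' B] [IsScalarTower A B' B]
    (h : OmegaSh.IsUnivThickeningRing A B B' (IsScalarTower.toAlgHom A B' B)) :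
    Function.Bijective ((KaehlerDifferential.mapBaseChange R A B').baseChange B) := by
  refine ⟨?_, ?_⟩
  · letI : Algebra R B := ((algebraMap A B).comp (algebraMap R A)).toAlgebra
    haveI : IsScalarTower R A B := IsScalarTower.of_algebraMap_eq fun r => rfl
    haveI : IsScalarTower R B' B := IsScalarTower.of_algebraMap_eq fun r => by
      rw [IsScalarTower.algebraMap_apply R A B', ← IsScalarTower.algebraMap_apply A B' B]; rfl
    obtain ⟨L, hL⟩ := exists_lift_kaehler h
      (((TensorProduct.mk A B Ω[A⁄R]) 1).compDer (D R A))
    have key : ∀ z, L.liftBaseChange B ((mapBaseChange R A B').baseChange B z) =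
        AlgebraTensorModule.cancelBaseChange A B' B B Ω[A⁄R] z := by
      intro z
      induction z using TensorProduct.induction_on with
      | zero => simp only [map_zero]
      | add y z hy hz => simp only [map_add, hy, hz]
      | tmul b y =>
        induction y using TensorProduct.induction_on with
        | zero => simp only [tmul_zero, map_zero]
        | add y z hy hz => simp only [tmul_add, map_add, hy, hz]
        | tmul x ω =>
          have hω : ω ∈ Submodule.span A (Set.range (D R A)) := by
            rw [span_range_derivation]; trivial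
          induction hω using Submodule.span_induction generalizing x with
          | mem _ hm =>
            obtain ⟨r, rfl⟩ := hm
            rw [LinearMap.baseChange_tmul, LinearMap.liftBaseChange_tmul, mapBaseChange_tmul,
              map_smul, map_D, hL, AlgebraTensorModule.cancelBaseChange_tmul]
            show b • x • ((1 : B) ⊗ₜ[A] D R A r) = _
            rw [smul_tmul', smul_tmul', smul_eq_mul]
            congr 1
            rw [Algebra.smul_def, Algebra.smul_def, mul_one, mul_comm]
          | zero => simp only [tmul_zero, map_zero]
          | add u v _ _ hu hv => simp only [tmul_add, map_add, hu, hv]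
          | smul r u _ hu =>
            rw [← smul_tmul, hu]
    have hinj : Function.Injective
        ((L.liftBaseChange B) ∘ ((mapBaseChange R A B').baseChange B)) := by
      rw [show (L.liftBaseChange B) ∘ ((mapBaseChange R A B').baseChange B) =
        ⇑(AlgebraTensorModule.cancelBaseChange A B' B B Ω[A⁄R]) from funext key]
      exact LinearEquiv.injective _
    exact hinj.of_comp
  · haveI := formallyUnramified h
    have hsurj : Function.Surjective (mapBaseChange R A B') := fun y =>
      (exact_mapBaseChange_map R A B' y).mp (Subsingleton.elim _ _)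
    rw [show ⇑((mapBaseChange R A B').baseChange B) =
      ⇑((((mapBaseChange R A B').restrictScalars B')).lTensor B) from rfl]
    exact LinearMap.lTensor_surjective _ hsurj

end Groth.L19.Thick
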