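import Groth.Agent.L19.Thick.Transitivity
import Groth.Agent.L19.OmegaSh.ConormalSeq

/-!
# Right exactness of the transitivity sequence of universal thickenings
-/

set_option autoImplicit false
set_option linter.style.haveILetI false
set_option backward.isDefEq.respectTransparency.types false
set_option backward.isDefEq.respectTransparency false

universe u

open CategoryTheory CategoryTheory.Limits AlgebraicGeometry TopologicalSpace Opposite

noncomputable section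

namespace Groth.L19.Thick

open Groth.L18.Frame (rs ro rs_rs ro_ro rs_smul ro_self rs_self)
open _root_.OmegaSh (idealSect pullSect conormalSect IsConormalMap)
open Groth.L19.OmegaSh (idl idealSect_rs idealSect_smul exists_idealSect conormalSect_rs conormalSect_smul
  cVal cVal_eq conormalMap_value conormalMap_id_value exists_conormalMap_val eq_of_local hom_rs app_ro comp_app'
  exact_and_epi_of_desc exists_unique_desc_comp conormal_hom_ext app_idealSect app_pull_idealSect)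

section Kills

variable {Z Y Z' Y' Z'' : Scheme.{u}} {i : Z ⟶ Y} {j : Y ⟶ Y'} {m : Z' ⟶ Y'} {i'' : Z ⟶ Z''}
  {n : Z'' ⟶ Z'} {M : Z.Modules}

/-- the ideal of functions with zero value -/
theorem zero_of_mem_map [QuasiCompact (i'' ≫ n)] (hm : i ≫ j = (i'' ≫ n) ≫ m)
    (α : Omega.conormal (i'' ≫ n) ⟶ M)
    (hα : ∀ (U' : Y'.Opens) (s' : Γ(idl j, U')) (s : Γ(idl (i'' ≫ n), m ⁻¹ᵁ U')),
      idealSect (i'' ≫ n).ker (m ⁻¹ᵁ U') s = m.app U' (idealSect j.ker U' s') →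
        α.app _ (conormalSect (i'' ≫ n) (m ⁻¹ᵁ U') s) = 0)
    [QuasiCompact j] (U' : Y'.Opens) (W : Z'.Opens) (hWU : W ≤ m ⁻¹ᵁ U') (a : Γ(Z', W))
    (ha : a ∈ (RingHom.ker (j.app U').hom).map (m.appLE U' W hWU).hom) :
    ∃ t : Γ(idl (i'' ≫ n), W), idealSect (i'' ≫ n).ker W t = a ∧
      α.app _ (conormalSect (i'' ≫ n) W t) = 0 := by
  induction ha using Submodule.span_induction with
  | mem a ha =>
    obtain ⟨x, hx, rfl⟩ := ha
    obtain ⟨s', hs'⟩ := exists_idealSect j U' x hx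
    obtain ⟨s, hs⟩ := exists_idealSect (i'' ≫ n) (m ⁻¹ᵁ U') _ (app_pull_idealSect hm U' s')
    refine ⟨rs (idl (i'' ≫ n)) hWU s, ?_, ?_⟩
    · rw [idealSect_rs, hs, hs']
      rfl
    · rw [conormalSect_rs, hom_rs, hα U' s' s hs]
      exact map_zero _
  | zero => exact ⟨0, map_zero _, by rw [map_zero, map_zero]⟩
  | add a a' _ _ ha ha' =>
    obtain ⟨t, ht, ht'⟩ := ha
    obtain ⟨u, hu, hu'⟩ := ha'
    refine ⟨t + u, by rw [map_add, ht, hu], ?_⟩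
    rw [map_add (conormalSect (i'' ≫ n) W).hom, map_add, ht', hu', add_zero]
  | smul r a _ ha =>
    obtain ⟨t, ht, ht'⟩ := ha
    refine ⟨r • t, by rw [idealSect_smul, ht]; rfl, ?_⟩
    rw [conormalSect_smul, Scheme.Modules.Hom.app_smul, ht', smul_zero]

/-- maps killing the image of the conormal sheaf of `j` kill the conormal sheaf of `n` -/
theorem kills_of_isPullback {e : Z'' ⟶ Y} [IsClosedImmersion j] [QuasiCompact (i'' ≫ n)]
    (hP : IsPullback n e m j) (hm : i ≫ j = (i'' ≫ n) ≫ m) (α : Omega.conormal (i'' ≫ n) ⟶ M)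
    (hα : ∀ (U' : Y'.Opens) (s' : Γ(idl j, U')) (s : Γ(idl (i'' ≫ n), m ⁻¹ᵁ U')),
      idealSect (i'' ≫ n).ker (m ⁻¹ᵁ U') s = m.app U' (idealSect j.ker U' s') →
        α.app _ (conormalSect (i'' ≫ n) (m ⁻¹ᵁ U') s) = 0)
    (V : Z'.Opens) (s : Γ(idl (i'' ≫ n), V)) (hs : n.app V (idealSect (i'' ≫ n).ker V s) = 0) :
    α.app ((i'' ≫ n) ⁻¹ᵁ V) (conormalSect (i'' ≫ n) V s) = 0 := by
  haveI : IsClosedImmersion n := MorphismProperty.of_isPullback hP.flip inferInstance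
  refine eq_of_local _ _ fun z hz => ?_
  obtain ⟨U', W, hWU, hzW, hWV, -⟩ :=
    Groth.L22.Ideals.exists_affine_pair m ((i'' ≫ n) z) hz (W' := ⊤) trivial
  refine ⟨(i'' ≫ n) ⁻¹ᵁ W.1, Scheme.Hom.preimage_mono _ hWV, hzW, ?_⟩
  rw [← hom_rs, ← conormalSect_rs hWV]
  refine Eq.trans ?_ (map_zero _).symm
  have hmem : idealSect (i'' ≫ n).ker W.1 (rs (idl (i'' ≫ n)) hWV s) ∈
      (RingHom.ker (j.app U'.1).hom).map (m.appLE U'.1 W.1 hWU).hom := by
    rw [← Scheme.Hom.ker_apply j U', ← Groth.L22.Ideals.comap_ideal m j.ker U' W hWU,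
      ← Groth.L17.Thick.ker_of_isPullback hP, Scheme.Hom.ker_apply n W, RingHom.mem_ker, idealSect_rs, app_ro, hs]
    exact map_zero _
  obtain ⟨t, ht, ht'⟩ := zero_of_mem_map hm α hα U'.1 W.1 hWU _ hmem
  rw [← Groth.L19.OmegaSh.idealSect_injective (i := i'' ≫ n) W.1 ht]
  exact ht'

end Kills

section Exact

variable {Z Y X Z' Y' Z'' : Scheme.{u}} {i : Z ⟶ Y} {b : Y ⟶ X} {i' : Z ⟶ Z'} {c : Z' ⟶ X}
  {j : Y ⟶ Y'} {d : Y' ⟶ X} {m : Z' ⟶ Y'} {i'' : Z ⟶ Z''} {e : Z'' ⟶ Y} {n : Z'' ⟶ Z'}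

/-- `i^* C_{Y/X} → C_{Z/X} → C_{Z/Y} → 0` is exact. -/
theorem exact_transitivity (hZ' : OmegaSh.IsUnivThickening (i ≫ b) i' c)
    (hY' : OmegaSh.IsUnivThickening b j d) (hm₁ : i' ≫ m = i ≫ j) (hm₂ : m ≫ d = c)
    (hZ'' : OmegaSh.IsUnivThickening i i'' e) (hn₁ : i'' ≫ n = i') (hn₂ : n ≫ c = e ≫ b)
    (ψ₁ : (Scheme.Modules.pullback i).obj (Omega.conormal j) ⟶ Omega.conormal i')
    (hψ₁ : IsConormalMap i' j m i ψ₁)
    (ψ₂ : (Scheme.Modules.pullback (𝟙 Z)).obj (Omega.conormal i') ⟶ Omega.conormal i'')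
    (hψ₂ : IsConormalMap i'' i' n (𝟙 Z) ψ₂) :
    ∃ w : (Scheme.Modules.pullback (𝟙 Z)).map ψ₁ ≫ ψ₂ = 0, (ShortComplex.mk _ _ w).Exact ∧ Epi ψ₂ := by
  have hP := isPullback_transitivity hZ' hY' hm₁ hm₂ hZ'' hn₁ hn₂
  haveI : IsClosedImmersion j := hY'.1.1.1
  haveI : IsClosedImmersion n := MorphismProperty.of_isPullback hP.flip inferInstance
  haveI : IsClosedImmersion i'' := hZ''.1.1.1
  subst hn₁
  let η := Scheme.Modules.pullbackId Z
  let g : Omega.conormal (i'' ≫ n) ⟶ Omega.conormal i'' := η.inv.app _ ≫ ψ₂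
  have gval : ∀ (V : Z'.Opens) (s : Γ(idl (i'' ≫ n), V)) (t : Γ(idl i'', n ⁻¹ᵁ V)),
      idealSect i''.ker (n ⁻¹ᵁ V) t = n.app V (idealSect (i'' ≫ n).ker V s) →
        g.app ((i'' ≫ n) ⁻¹ᵁ V) (conormalSect (i'' ≫ n) V s) = conormalSect i'' (n ⁻¹ᵁ V) t := fun V s t ht =>
    (conormalMap_id_value hψ₂.1 hψ₂ V s).trans
      ((cVal_eq hψ₂.1 t ht).trans (rs_self (Omega.conormal i'') _ _))
  have hval : ∀ {M : Z.Modules} (α : Omega.conormal (i'' ≫ n) ⟶ M) (U' : Y'.Opens) (s' : Γ(idl j, U'))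
      (s : Γ(idl (i'' ≫ n), m ⁻¹ᵁ U')),
      idealSect (i'' ≫ n).ker (m ⁻¹ᵁ U') s = m.app U' (idealSect j.ker U' s') →
      (ψ₁ ≫ α).app (i ⁻¹ᵁ (j ⁻¹ᵁ U')) (pullSect i (Omega.conormal j) (j ⁻¹ᵁ U') (conormalSect j U' s')) =
        rs M (Groth.L19.OmegaSh.preimage_comm hψ₁.1 U').le
          (α.app ((i'' ≫ n) ⁻¹ᵁ (m ⁻¹ᵁ U')) (conormalSect (i'' ≫ n) (m ⁻¹ᵁ U') s)) := by
    intro M α U' s' s hs
    refine Eq.trans (congrArg (α.app _) (conormalMap_value hψ₁.1 hψ₁ U' s')) ?_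
    rw [cVal_eq hψ₁.1 s hs, hom_rs]
  have key : ∀ {M : Z.Modules} (α : Omega.conormal (i'' ≫ n) ⟶ M), ψ₁ ≫ α = 0 →
      ∀ (V : Z'.Opens) (s : Γ(idl (i'' ≫ n), V)), n.app V (idealSect (i'' ≫ n).ker V s) = 0 →
        α.app ((i'' ≫ n) ⁻¹ᵁ V) (conormalSect (i'' ≫ n) V s) = 0 := fun {M} α h0 V s hs =>
    kills_of_isPullback hP hm₁.symm α (fun U' s' s hs => by
      have h1 := (hval α U' s' s hs).symm
      rw [h0] at h1
      have h2 := congrArg (rs M (Groth.L19.OmegaSh.preimage_comm hψ₁.1 U').ge) h1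
      rw [rs_rs, rs_self] at h2
      exact h2.trans (map_zero _)) V s hs
  have key' : ψ₁ ≫ g = 0 := by
    apply ((Scheme.Modules.pullbackPushforwardAdjunction i).homEquiv _ _).injective
    refine conormal_hom_ext (i := j) fun U' s' => ?_
    obtain ⟨s, hs⟩ := exists_conormalMap_val hψ₁.1 U' s'
    rw [Adjunction.homEquiv_unit, Adjunction.homEquiv_unit]
    refine (hval g U' s' s hs).trans ?_
    rw [gval (m ⁻¹ᵁ U') s 0 (by
      rw [map_zero, hs]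
      have h1 : n.app (m ⁻¹ᵁ U') (m.app U' (idealSect j.ker U' s')) = (n ≫ m).app U' (idealSect j.ker U' s') :=
        (comp_app' m n U' _).symm
      rw [h1, Scheme.Hom.congr_app hP.w U', CommRingCat.comp_apply, comp_app', app_idealSect, map_zero, map_zero])]
    refine Eq.trans (congrArg (rs _ _) (map_zero _)) ((map_zero _).trans ?_)
    rw [Functor.map_zero, comp_zero]
    rfl
  have hnat : (Scheme.Modules.pullback (𝟙 Z)).map ψ₁ ≫ ψ₂ = η.hom.app _ ≫ ψ₁ ≫ g := by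
    show _ = η.hom.app _ ≫ ψ₁ ≫ η.inv.app _ ≫ ψ₂
    rw [← cancel_epi (η.inv.app _), Iso.inv_hom_id_app_assoc]
    exact (η.inv.naturality_assoc ψ₁ ψ₂).symm
  have w : (Scheme.Modules.pullback (𝟙 Z)).map ψ₁ ≫ ψ₂ = 0 := by
    rw [hnat, key', comp_zero]
  refine ⟨w, exact_and_epi_of_desc _ _ w fun M α hα => ?_⟩
  have h0 : ψ₁ ≫ η.inv.app _ ≫ α = 0 := by
    refine ((η.inv.naturality_assoc ψ₁ α).trans ?_)
    exact (congrArg (η.inv.app _ ≫ ·) hα).trans comp_zero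
  obtain ⟨β, hβ, hu⟩ := exists_unique_desc_comp (η.inv.app _ ≫ α) (key _ h0)
  have bspec : ∀ β : Omega.conormal i'' ⟶ M, g ≫ β = η.inv.app _ ≫ α ↔
      ∀ (V : Z'.Opens) (s : Γ(idl (i'' ≫ n), V)) (t : Γ(idl i'', n ⁻¹ᵁ V)),
        idealSect i''.ker (n ⁻¹ᵁ V) t = n.app V (idealSect (i'' ≫ n).ker V s) →
          β.app (i'' ⁻¹ᵁ (n ⁻¹ᵁ V)) (conormalSect i'' (n ⁻¹ᵁ V) t) =
            (η.inv.app _ ≫ α).app ((i'' ≫ n) ⁻¹ᵁ V) (conormalSect (i'' ≫ n) V s) := by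
    intro β
    constructor
    · intro h V s t ht
      rw [← h, ← gval V s t ht]
      rfl
    · intro h
      refine conormal_hom_ext (i := i'' ≫ n) fun V s => ?_
      obtain ⟨t, ht⟩ := exists_conormalMap_val hψ₂.1 V s
      exact (congrArg (β.app _) (gval V s t ht)).trans (h V s t ht)
  have hiff : ∀ β : Omega.conormal i'' ⟶ M, ψ₂ ≫ β = α ↔ g ≫ β = η.inv.app _ ≫ α := fun β => by
    rw [show g ≫ β = η.inv.app _ ≫ ψ₂ ≫ β from Category.assoc _ _ _, cancel_epi]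
  exact ⟨β, (hiff β).mpr ((bspec β).mpr hβ), fun β' hβ' => hu β' ((bspec β').mp ((hiff β').mp hβ'))⟩

end Exact

end Groth.L19.Thick
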