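import Groth.Agent.L19.Thick.H1Reg
import Groth.Prelude.Def_Omega3
import Mathlib.RingTheory.Flat.Basic
import Mathlib.RingTheory.Ideal.Quotient.Operations

/-!
# Left exactness of the transitivity sequence of universal thickenings (ring level)
-/

set_option autoImplicit false
set_option linter.style.haveILetI false
set_option backward.isDefEq.respectTransparency.types false
set_option backward.isDefEq.respectTransparency false

universe u

open TensorProduct

namespace Groth.L19.Thick

variable {R S S' T T' A B : Type u} [CommRing R] [CommRing S] [CommRing S'] [CommRing T] [CommRing T']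
  [CommRing A] [CommRing B]
  [Algebra R S] [Algebra R S'] [Algebra R T] [Algebra R T'] [Algebra S' A]

/-- lifts to `A / J²` extending the structure map of `S'` -/
theorem exists_lift_sq (πS : S' →ₐ[R] S) (hS : _root_.OmegaSh.IsUnivThickeningRing R S S' πS)
    (πT : T' →ₐ[R] T) (hT : _root_.OmegaSh.IsUnivThickeningRing R T T' πT) (φ : S →ₐ[R] T)
    (μ : S' →ₐ[R] T') (hμ : πT.comp μ = φ.comp πS)
    (β : A →+* T) (hβ : Function.Surjective β) (hcomp : ∀ s, β (algebraMap S' A s) = φ (πS s)) :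
    ∃ σ : T' →+* A ⧸ (RingHom.ker β * RingHom.ker β),
      (∀ s, σ (μ s) = Ideal.Quotient.mk _ (algebraMap S' A s)) ∧
      (∀ t a, β a = πT t → σ t - Ideal.Quotient.mk _ a ∈
        (RingHom.ker β).map (Ideal.Quotient.mk (RingHom.ker β * RingHom.ker β))) := by
  let J := RingHom.ker β
  let Q := A ⧸ (J * J)
  letI : Algebra R A := ((algebraMap S' A).comp (algebraMap R S')).toAlgebra
  letI : Algebra R Q := ((Ideal.Quotient.mk (J * J)).comp (algebraMap R A)).toAlgebra
  let I : Ideal Q := J.map (Ideal.Quotient.mk (J * J))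
  have hI : I ^ 2 = ⊥ := by
    rw [pow_two, ← Ideal.map_mul]
    exact Ideal.map_quotient_self _
  let β₀ : A →ₐ[R] T :=
    { toRingHom := β
      commutes' := fun r => by
        show β (algebraMap S' A (algebraMap R S' r)) = _
        rw [hcomp, AlgHom.commutes, AlgHom.commutes] }
  let e : (A ⧸ J) ≃ₐ[R] T := Ideal.quotientKerAlgEquivOfSurjective (f := β₀) hβ
  let d : A ⧸ J →+* Q ⧸ I := Ideal.Quotient.lift J ((Ideal.Quotient.mk I).comp (Ideal.Quotient.mk (J * J)))
    fun a ha => Ideal.Quotient.eq_zero_iff_mem.mpr (Ideal.mem_map_of_mem _ ha)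
  let d' : A ⧸ J →ₐ[R] Q ⧸ I :=
    { toRingHom := d, commutes' := fun r => rfl }
  let a : T →ₐ[R] Q ⧸ I := d'.comp e.symm.toAlgHom
  have ha : ∀ x, a (β x) = Ideal.Quotient.mk I (Ideal.Quotient.mk (J * J) x) := fun x => by
    have : e.symm (β x) = Ideal.Quotient.mk J x := e.injective (by
      rw [e.apply_symm_apply]
      rfl)
    show d' (e.symm (β x)) = _
    rw [this]
    rfl
  obtain ⟨σ, hσ, -⟩ := hT.2.2 Q I hI a
  refine ⟨σ.toRingHom, fun s => ?_, fun t x hx => ?_⟩
  · obtain ⟨w, -, huniq⟩ := hS.2.2 Q I hI (a.comp φ)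
    let ι : S' →ₐ[R] Q :=
      { toRingHom := (Ideal.Quotient.mk (J * J)).comp (algebraMap S' A), commutes' := fun r => rfl }
    have h1 : (Ideal.Quotient.mkₐ R I).comp ι = (a.comp φ).comp πS := AlgHom.ext fun s => by
      show Ideal.Quotient.mk I (Ideal.Quotient.mk (J * J) (algebraMap S' A s)) = a (φ (πS s))
      rw [← hcomp, ha]
    have h2 : (Ideal.Quotient.mkₐ R I).comp (σ.comp μ) = (a.comp φ).comp πS := by
      rw [← AlgHom.comp_assoc, hσ, AlgHom.comp_assoc, hμ]
      rfl
    exact DFunLike.congr_fun ((huniq _ h2).trans (huniq _ h1).symm) s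
  · refine (Ideal.Quotient.eq (I := I)).mp ?_
    show (Ideal.Quotient.mkₐ R I).comp σ t = Ideal.Quotient.mk I _
    rw [hσ, ← ha, hx]
    rfl

variable [Module.Flat S' A]

/-- `T ⊗ ker(S' → S) → T'` is injective for a complete intersection presentation. -/
theorem balanced_eq_zero (πS : S' →ₐ[R] S) (hS : _root_.OmegaSh.IsUnivThickeningRing R S S' πS)
    (πT : T' →ₐ[R] T) (hT : _root_.OmegaSh.IsUnivThickeningRing R T T' πT) (φ : S →ₐ[R] T)
    (μ : S' →ₐ[R] T') (hμ : πT.comp μ = φ.comp πS)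
    (q : A →+* B) (hq : Function.Surjective q) (β : B →+* T) (hβ : Function.Surjective β)
    (hqK : RingHom.ker q = (RingHom.ker πS.toRingHom).map (algebraMap S' A))
    (hcomp : ∀ s, β (q (algebraMap S' A s)) = φ (πS s))
    {c : ℕ} (g : Fin c → B) (hg : CAlgX.IsH1Regular g) (hgspan : RingHom.ker β = Ideal.span (Set.range g))
    {N : Type u} [AddCommGroup N] (Φ : T →+ (RingHom.ker πS.toRingHom →+ N))
    (hΦ : ∀ (s : S') (a : T) (k : RingHom.ker πS.toRingHom), Φ (φ (πS s) * a) k = Φ a (s • k))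
    {ι : Type*} [Fintype ι] (t : ι → T') (k : ι → RingHom.ker πS.toRingHom)
    (h : ∑ l, t l * μ (k l : S') = 0) : ∑ l, Φ (πT (t l)) (k l) = 0 := by
  classical
  let K := RingHom.ker πS.toRingHom
  have hβq : Function.Surjective (β.comp q) := hβ.comp hq
  let J := RingHom.ker (β.comp q)
  obtain ⟨σ, hσμ, hσ⟩ := exists_lift_sq πS hS πT hT φ μ hμ (β.comp q) hβq hcomp
  choose a ha using fun l => hβq (πT (t l))
  have hKJ : ∀ k : K, algebraMap S' A (k : S') ∈ J := fun k => by
    rw [RingHom.mem_ker, RingHom.comp_apply, hcomp, show πS (k : S') = 0 from k.2, map_zero]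
  have hx2 : ∑ l, a l * algebraMap S' A (k l : S') ∈ J * J := by
    have h1 : σ (∑ l, t l * μ (k l : S')) = 0 := by rw [h, map_zero]
    rw [map_sum] at h1
    rw [← Ideal.Quotient.eq_zero_iff_mem, map_sum]
    refine Eq.trans ?_ h1
    refine Finset.sum_congr rfl fun l _ => ?_
    rw [map_mul, map_mul, hσμ, eq_comm, ← sub_eq_zero, ← sub_mul]
    have h2 := Ideal.mul_mem_mul (hσ (t l) (a l) (ha l))
      (Ideal.mem_map_of_mem (Ideal.Quotient.mk (J * J)) (hKJ (k l)))
    rw [← Ideal.map_mul, Ideal.map_quotient_self, Ideal.mem_bot] at h2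
    exact h2
  choose f hf using fun i => hq (g i)
  have hJ : J = RingHom.ker q ⊔ Ideal.span (Set.range f) := by
    have e1 : (Ideal.span (Set.range f)).map q = RingHom.ker β := by
      rw [hgspan, Ideal.map_span, ← Set.range_comp]
      congr 2
      exact funext hf
    rw [sup_comm, RingHom.ker_eq_comap_bot q, ← Ideal.comap_map_of_surjective q hq, e1, RingHom.comap_ker]
  have hxI : ∑ l, a l * algebraMap S' A (k l : S') ∈ RingHom.ker q := by
    rw [hqK]
    exact Submodule.sum_mem _ fun l _ => Ideal.mul_mem_left _ _ (Ideal.mem_map_of_mem _ (k l).2)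
  have hg' : CAlgX.IsH1Regular fun i => q (f i) := by simpa only [hf] using hg
  have hx := mem_mul_of_h1Regular q hq J f hJ hg' _ hxI hx2
  rw [hqK] at hx
  let mult : A ⊗[S'] K →ₗ[S'] A := (TensorProduct.rid S' A).toLinearMap ∘ₗ (Submodule.subtype K).lTensor A
  have hmult : ∀ (e : A) (k : K), mult (e ⊗ₜ k) = e * algebraMap S' A (k : S') := fun e k => by
    show TensorProduct.rid S' A (e ⊗ₜ[S'] (k : S')) = _
    rw [TensorProduct.rid_tmul, Algebra.smul_def, mul_comm]
  have hinj : Function.Injective mult :=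
    (TensorProduct.rid S' A).injective.comp
      (Module.Flat.lTensor_preserves_injective_linearMap _ (Submodule.subtype_injective K))
  let Ψ : A ⊗[S'] K →+ N := TensorProduct.liftAddHom (Φ.comp (β.comp q).toAddMonoidHom) fun s e k => by
    show Φ (β (q (s • e))) k = Φ (β (q e)) (s • k)
    rw [Algebra.smul_def, map_mul, map_mul, hcomp, hΦ]
  have key : ∀ x ∈ K.map (algebraMap S' A) * J, ∃ z, mult z = x ∧ Ψ z = 0 := by
    intro x hx
    induction hx using Submodule.mul_induction_on' with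
    | mem_mul_mem u hu v hv =>
      induction hu using Submodule.span_induction generalizing v with
      | mem u hu =>
        obtain ⟨k, hk, rfl⟩ := hu
        refine ⟨v ⊗ₜ ⟨k, hk⟩, by rw [hmult, mul_comm], ?_⟩
        show Φ (β (q v)) ⟨k, hk⟩ = 0
        rw [show β (q v) = 0 from hv, map_zero]
        rfl
      | zero => exact ⟨0, by simp, map_zero _⟩
      | add u₁ u₂ _ _ h₁ h₂ =>
        obtain ⟨z₁, e₁, f₁⟩ := h₁ v hv
        obtain ⟨z₂, e₂, f₂⟩ := h₂ v hv
        exact ⟨z₁ + z₂, by rw [map_add, e₁, e₂, add_mul], by rw [map_add, f₁, f₂, add_zero]⟩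
      | smul c u _ h₁ =>
        obtain ⟨z, e, f⟩ := h₁ (c * v) (Ideal.mul_mem_left _ _ hv)
        exact ⟨z, by rw [e, smul_eq_mul]; ring, f⟩
    | add u _ v _ hu hv =>
      obtain ⟨z₁, e₁, f₁⟩ := hu
      obtain ⟨z₂, e₂, f₂⟩ := hv
      exact ⟨z₁ + z₂, by rw [map_add, e₁, e₂], by rw [map_add, f₁, f₂, add_zero]⟩
  obtain ⟨z, hz, hz0⟩ := key _ hx
  have he : z = ∑ l, a l ⊗ₜ k l := hinj (by rw [hz, map_sum]; simp only [hmult])
  rw [he, map_sum] at hz0
  refine Eq.trans (Finset.sum_congr rfl fun l _ => ?_) hz0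
  show Φ (πT (t l)) (k l) = Φ (β (q (a l))) (k l)
  exact congrArg (fun x => Φ x (k l)) (ha l).symm

end Groth.L19.Thick
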