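import Groth.Agent.L19.Thick.TransInj
import Groth.Agent.L07.RegAt
import Mathlib.RingTheory.Flat.Stability
import Mathlib.RingTheory.Flat.Localization
import Mathlib.RingTheory.Localization.Algebra
import Mathlib.RingTheory.Polynomial.Basic

/-!
# Left exactness from a polynomial presentation with Koszul-regular kernel
-/

set_option autoImplicit false
set_option linter.style.haveILetI false
set_option backward.isDefEq.respectTransparency.types false
set_option backward.isDefEq.respectTransparency false

universe u

namespace Groth.L19.Thick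

variable {R S S' T₀ T T' : Type u} [CommRing R] [CommRing S] [CommRing S'] [CommRing T₀] [CommRing T]
  [CommRing T'] [Algebra R S] [Algebra R S'] [Algebra R T] [Algebra R T'] [Algebra T₀ T]

theorem balanced_eq_zero_of_presentation (πS : S' →ₐ[R] S)
    (hS : _root_.OmegaSh.IsUnivThickeningRing R S S' πS)
    (πT : T' →ₐ[R] T) (hT : _root_.OmegaSh.IsUnivThickeningRing R T T' πT) (φ : S →ₐ[R] T)
    (μ : S' →ₐ[R] T') (hμ : πT.comp μ = φ.comp πS)
    {n : ℕ} (α : MvPolynomial (Fin n) S →+* T₀) (hα : Function.Surjective α)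
    (hC : ∀ s, algebraMap T₀ T (α (MvPolynomial.C s)) = φ s)
    (g : MvPolynomial (Fin n) S) [IsLocalization.Away (α g) T]
    (l : List (MvPolynomial (Fin n) S)) (hl : Groth.L07.KoszulIdeal.SeqOn (RingHom.ker α) g l)
    {N : Type u} [AddCommGroup N] (Φ : T →+ (RingHom.ker πS.toRingHom →+ N))
    (hΦ : ∀ (s : S') (a : T) (k : RingHom.ker πS.toRingHom), Φ (φ (πS s) * a) k = Φ a (s • k))
    {ι : Type*} [Fintype ι] (t : ι → T') (k : ι → RingHom.ker πS.toRingHom)
    (h : ∑ x, t x * μ (k x : S') = 0) : ∑ x, Φ (πT (t x)) (k x) = 0 := by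
  let ρ : MvPolynomial (Fin n) S' →+* MvPolynomial (Fin n) S := MvPolynomial.map πS.toRingHom
  have hρ : Function.Surjective ρ := MvPolynomial.map_surjective _ hS.1
  obtain ⟨g', hg'⟩ := hρ g
  subst hg'
  let A := Localization.Away g'
  let B := Localization.Away (ρ g')
  have hMρ : Submonoid.map ρ (Submonoid.powers g') = Submonoid.powers (ρ g') := Submonoid.map_powers ρ g'
  have hMα : Submonoid.map α (Submonoid.powers (ρ g')) = Submonoid.powers (α (ρ g')) := Submonoid.map_powers α _
  haveI : IsLocalization ((Submonoid.powers g').map ρ) B := by rw [hMρ]; infer_instance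
  haveI : IsLocalization ((Submonoid.powers (ρ g')).map α) T := by rw [hMα]; infer_instance
  let q : A →+* B := IsLocalization.map B ρ (Submonoid.powers g').le_comap_map
  let β : B →+* T := IsLocalization.map T α (Submonoid.powers (ρ g')).le_comap_map
  have hkerρ : RingHom.ker q = (RingHom.ker ρ).map (algebraMap _ A) :=
    IsLocalization.ker_map (S := A) (Q := B) (g := ρ) (T := (Submonoid.powers g').map ρ) rfl
  have hkerα : RingHom.ker β = (RingHom.ker α).map (algebraMap _ B) :=
    IsLocalization.ker_map (S := B) (Q := T) (g := α) (T := (Submonoid.powers (ρ g')).map α) rfl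
  haveI : Module.Flat (MvPolynomial (Fin n) S') A := IsLocalization.flat A (Submonoid.powers g')
  haveI : Module.Flat S' A := Module.Flat.trans S' (MvPolynomial (Fin n) S') A
  have hcomp : ∀ s, β (q (algebraMap S' A s)) = φ (πS s) := fun s => by
    rw [IsScalarTower.algebraMap_apply S' (MvPolynomial (Fin n) S') A, MvPolynomial.algebraMap_eq,
      IsLocalization.map_eq, IsLocalization.map_eq]
    show algebraMap T₀ T (α (MvPolynomial.map πS.toRingHom (MvPolynomial.C s))) = _
    rw [MvPolynomial.map_C, hC]
    rfl
  let l' := l.map (algebraMap (MvPolynomial (Fin n) S) B)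
  have hspan : RingHom.ker β = Ideal.span (Set.range fun i : Fin l'.length => l'[i.1]) := by
    rw [hkerα, Groth.L07.KoszulIdeal.SeqOn.map_eq _ (IsLocalization.Away.algebraMap_isUnit (ρ g')) hl]
    show Ideal.span _ = _
    congr 1
    ext x
    simp only [Set.mem_ofPred_eq, Set.mem_range, List.mem_iff_getElem, Fin.exists_iff, l']
  exact balanced_eq_zero πS hS πT hT φ μ hμ q (IsLocalization.map_surjective_of_surjective _ _ _ hρ)
    β (IsLocalization.map_surjective_of_surjective _ _ _ hα)
    (by rw [hkerρ, MvPolynomial.ker_map, Ideal.map_map]; rfl)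
    hcomp _ (isH1Regular_of_koszul hl.2.2) hspan Φ hΦ t k h

end Groth.L19.Thick
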