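import Groth.Agent.L19.Thick.PullGen
import Groth.Agent.L19.Thick.ConormalInj
import Groth.Agent.L19.Thick.TransPres
import Groth.Agent.L19.OmegaSh.ConormalMaps
import Groth.Agent.L07.KoszulLCI
import Groth.Agent.L22.LocalDim

/-!
# Left exactness of the transitivity sequence for local complete intersections
-/

set_option autoImplicit false
set_option linter.style.haveILetI false
set_option backward.isDefEq.respectTransparency.types false
set_option backward.isDefEq.respectTransparency false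

universe u

open CategoryTheory CategoryTheory.Limits AlgebraicGeometry TopologicalSpace Opposite

noncomputable section

namespace Groth.L19.Thick

open Groth.L18.Frame (rs ro rs_rs ro_ro rs_smul ro_self rs_self)
open _root_.OmegaSh (idealSect pullSect conormalSect pullSect_smul IsConormalMap)
open Groth.L00.Tensor (pre)
open Groth.L19.OmegaSh (idl idealSect_rs idealSect_smul idealSect_injective exists_idealSect conormalSect_rs
  conormalSect_smul app_idealSect hom_rs app_ro cVal cVal_eq conormalMap_value exists_conormalMap_val)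

variable {Z Y X Z' Y' : Scheme.{u}} {i : Z ⟶ Y} {b : Y ⟶ X} {i' : Z ⟶ Z'} {c : Z' ⟶ X}
  {j : Y ⟶ Y'} {d : Y' ⟶ X} {m : Z' ⟶ Y'}

section Gens

variable (i j) in
/-- the classes over one affine open, restricted -/
def genSect (U' : Y'.Opens) (O : Z.Opens) (hO : O ≤ i ⁻¹ᵁ (j ⁻¹ᵁ U')) :
    Γ(idl j, U') →+ Γ((Scheme.Modules.pullback i).obj (Omega.conormal j), O) :=
  AddMonoidHom.mk' (fun s => rs _ hO (pullSect i (Omega.conormal j) (j ⁻¹ᵁ U') (conormalSect j U' s)))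
    fun s t => by
      rw [map_add (conormalSect j U').hom, map_add (pullSect i (Omega.conormal j) (j ⁻¹ᵁ U')).hom]
      exact map_add _ _ _

theorem genSect_smul {U' : Y'.Opens} {O : Z.Opens} (hO : O ≤ i ⁻¹ᵁ (j ⁻¹ᵁ U')) (r : Γ(Y', U'))
    (s : Γ(idl j, U')) :
    genSect i j U' O hO (r • s) = ro hO (i.app _ (j.app U' r)) • genSect i j U' O hO s := by
  show rs _ hO (pullSect i _ _ (conormalSect j U' (r • s))) = _
  rw [conormalSect_smul, pullSect_smul, rs_smul]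
  rfl

theorem germ_genSect (z : Z) {U' : Y'.Opens} {O : Z.Opens} (hO : O ≤ i ⁻¹ᵁ (j ⁻¹ᵁ U')) (hz : z ∈ O)
    (s : Γ(idl j, U')) :
    Groth.L00.StalkTensor.germ (pre ((Scheme.Modules.pullback i).obj (Omega.conormal j))) z hz
        (genSect i j U' O hO s) = gen i j z U' (hO hz) s :=
  Groth.L00.StalkTensor.germ_rs (pre ((Scheme.Modules.pullback i).obj (Omega.conormal j))) z (homOfLE hO) hz _

theorem rs_genSect {U' : Y'.Opens} {O O' : Z.Opens} (hO : O ≤ i ⁻¹ᵁ (j ⁻¹ᵁ U')) (h : O' ≤ O)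
    (s : Γ(idl j, U')) :
    rs _ h (genSect i j U' O hO s) = genSect i j U' O' (h.trans hO) s :=
  rs_rs _ _ _ _

theorem app_genSect [QuasiCompact i'] (hsq : i ≫ j = i' ≫ m)
    {ψ : (Scheme.Modules.pullback i).obj (Omega.conormal j) ⟶ Omega.conormal i'}
    (hψ : IsConormalMap i' j m i ψ) {U' : Y'.Opens} {W : Z'.Opens} (hWU : W ≤ m ⁻¹ᵁ U')
    (hO : i' ⁻¹ᵁ W ≤ i ⁻¹ᵁ (j ⁻¹ᵁ U')) (s : Γ(idl j, U')) (w : Γ(idl i', W))
    (hw : idealSect i'.ker W w = ro hWU (m.app U' (idealSect j.ker U' s))) :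
    ψ.app (i' ⁻¹ᵁ W) (genSect i j U' (i' ⁻¹ᵁ W) hO s) = conormalSect i' W w := by
  obtain ⟨s₀, hs₀⟩ := exists_conormalMap_val hsq U' s
  show ψ.app _ (rs _ hO _) = _
  rw [hom_rs, conormalMap_value hsq hψ U' s, cVal_eq hsq s₀ hs₀, rs_rs]
  have e : w = rs (idl i') hWU s₀ := idealSect_injective (i := i') W (by rw [hw, idealSect_rs, hs₀])
  rw [e, conormalSect_rs]

end Gens

/-- `i^* C_{Y/X} → C_{Z/X}` is a monomorphism when `i` is Koszul. -/
theorem mono_transitivity (hZ' : OmegaSh.IsUnivThickening (i ≫ b) i' c)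
    (hY' : OmegaSh.IsUnivThickening b j d) (hm₁ : i' ≫ m = i ≫ j) (hm₂ : m ≫ d = c)
    (ψ : (Scheme.Modules.pullback i).obj (Omega.conormal j) ⟶ Omega.conormal i')
    (hψ : IsConormalMap i' j m i ψ) (hlci : ∀ z : Z, Synt.IsKoszulAt i z) : Mono ψ := by
  classical
  obtain ⟨hi', hw', -⟩ := id hZ'
  obtain ⟨hj, hwj, -⟩ := id hY'
  haveI : IsClosedImmersion i' := hi'.1.1
  haveI : IsClosedImmersion j := hj.1.1
  rw [Groth.L21.Mod.mono_iff_stalk_injective]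
  intro z
  rw [injective_iff_map_eq_zero]
  intro p hp
  -- opens around `z`
  obtain ⟨_, ⟨UX, hUX, rfl⟩, hzX, -⟩ :=
    X.isBasis_affineOpens.exists_subset_of_mem_open (Set.mem_univ (d (j (i z)))) isOpen_univ
  obtain ⟨_, ⟨U', hU', rfl⟩, hzU', hU'le⟩ :=
    Y'.isBasis_affineOpens.exists_subset_of_mem_open (show j (i z) ∈ d ⁻¹ᵁ UX from hzX) (d ⁻¹ᵁ UX).2
  replace hU' : IsAffineOpen U' := hU'
  replace hU'le : U' ≤ d ⁻¹ᵁ UX := hU'le
  have hV : IsAffineOpen (j ⁻¹ᵁ U') := hU'.preimage j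
  have hz' : z ∈ i ⁻¹ᵁ (j ⁻¹ᵁ U') := hzU'
  obtain ⟨W₀, hzW₀, N, a, u, hpeq⟩ := exists_rep (i := i) (j := j) ⟨U', hU'⟩ hz' p
  -- the section and the neighbourhood where its image vanishes
  let O₀ : Z.Opens := W₀ ⊓ i ⁻¹ᵁ (j ⁻¹ᵁ U')
  have hzO₀ : z ∈ O₀ := ⟨hzW₀, hz'⟩
  let x : Γ((Scheme.Modules.pullback i).obj (Omega.conormal j), O₀) :=
    ∑ k, ro (inf_le_left : O₀ ≤ W₀) (a k) • genSect i j U' O₀ inf_le_right (u k)
  have hx : ((Scheme.Modules.pullback i).obj (Omega.conormal j)).presheaf.germ O₀ z hzO₀ x = p := by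
    rw [hpeq]
    refine (map_sum (Groth.L00.StalkTensor.germ (pre ((Scheme.Modules.pullback i).obj (Omega.conormal j))) z hzO₀) _ _).trans
      (Finset.sum_congr rfl fun k _ => ?_)
    refine (Groth.L00.StalkTensor.germ_smul' _ z hzO₀ _ _).trans ?_
    rw [germ_genSect]
    exact congrArg (fun r : Z.presheaf.stalk z => r • gen i j z U' hz' (u k))
      (TopCat.Presheaf.germ_res_apply Z.presheaf (homOfLE inf_le_left) z hzO₀ (a k))
  have h0 : (Omega.conormal i').presheaf.germ O₀ z hzO₀ (ψ.app O₀ x) =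
      (Omega.conormal i').presheaf.germ O₀ z hzO₀ 0 := by
    rw [map_zero, ← Groth.L21.Mod.stalkF_map_germ ψ O₀ z hzO₀ x, hx]
    exact hp
  obtain ⟨W₁, hzW₁, r₁, r₂, hW₁⟩ := TopCat.Presheaf.germ_eq _ _ hzO₀ hzO₀ _ _ h0
  -- the chart
  obtain ⟨U, hU, eU, hzU, n, α, hUW₁, hα, hαC, g, hg, l, hl⟩ :=
    Groth.L07.KoszulChart.exists_chart i z (hlci z) hV hz' W₁ hzW₁
  have hzU₁ : z ∈ Z.basicOpen (α g) := (Groth.L22.LocalDim.mem_basicOpen_iff hU hzU (α g)).mpr hg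
  obtain ⟨W, hW, hWeq⟩ := exists_affine_of_preimage hi' (hU.basicOpen (α g))
  have hWU : i' ⁻¹ᵁ W ≤ U := hWeq.le.trans (Z.basicOpen_le _)
  have hWO₀ : i' ⁻¹ᵁ W ≤ O₀ := (hWU.trans hUW₁).trans r₁.le
  have hWV : i' ⁻¹ᵁ W ≤ i ⁻¹ᵁ (j ⁻¹ᵁ U') := hWO₀.trans inf_le_right
  have hWm : W ≤ m ⁻¹ᵁ U' := fun w hw => by
    obtain ⟨y, rfl⟩ := hi'.1.2.surj w
    have h1 := hWV (show y ∈ i' ⁻¹ᵁ W from hw)
    show (i' ≫ m) y ∈ U'
    rw [hm₁]
    exact h1
  have hWc : W ≤ c ⁻¹ᵁ UX := hWm.trans (by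
    rw [← hm₂, Scheme.Hom.comp_preimage]
    exact m.preimage_mono hU'le)
  have hVb : j ⁻¹ᵁ U' ≤ b ⁻¹ᵁ UX := by
    rw [← hwj, Scheme.Hom.comp_preimage]
    exact j.preimage_mono hU'le
  have hWb : i' ⁻¹ᵁ W ≤ (i ≫ b) ⁻¹ᵁ UX := by
    rw [Scheme.Hom.comp_preimage]
    exact hWV.trans (i.preimage_mono hVb)
  have hcompS : d.appLE UX U' hU'le ≫ j.appLE U' (j ⁻¹ᵁ U') le_rfl = b.appLE UX (j ⁻¹ᵁ U') hVb := by
    rw [Scheme.Hom.appLE_comp_appLE]
    simp only [hwj]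
  have hcompT : c.appLE UX W hWc ≫ i'.appLE W (i' ⁻¹ᵁ W) le_rfl = (i ≫ b).appLE UX (i' ⁻¹ᵁ W) hWb := by
    rw [Scheme.Hom.appLE_comp_appLE]
    simp only [hw']
  have hS := ringUniv_appLE hY' hUX hU' hU'le hVb hcompS
  have hT := ringUniv_appLE hZ' hUX hW hWc hWb hcompT
  letI := (b.appLE UX (j ⁻¹ᵁ U') hVb).hom.toAlgebra
  letI := (d.appLE UX U' hU'le).hom.toAlgebra
  letI := ((i ≫ b).appLE UX (i' ⁻¹ᵁ W) hWb).hom.toAlgebra
  letI := (c.appLE UX W hWc).hom.toAlgebra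
  let πS : Γ(Y', U') →ₐ[Γ(X, UX)] Γ(Y, j ⁻¹ᵁ U') :=
    { toRingHom := (j.appLE U' (j ⁻¹ᵁ U') le_rfl).hom, commutes' := fun r => congr($hcompS r) }
  let πT : Γ(Z', W) →ₐ[Γ(X, UX)] Γ(Z, i' ⁻¹ᵁ W) :=
    { toRingHom := (i'.appLE W (i' ⁻¹ᵁ W) le_rfl).hom, commutes' := fun r => congr($hcompT r) }
  let φ : Γ(Y, j ⁻¹ᵁ U') →ₐ[Γ(X, UX)] Γ(Z, i' ⁻¹ᵁ W) :=
    { toRingHom := (i.appLE (j ⁻¹ᵁ U') (i' ⁻¹ᵁ W) hWV).hom
      commutes' := fun r => by
        have h := Scheme.Hom.appLE_comp_appLE i b UX (j ⁻¹ᵁ U') (i' ⁻¹ᵁ W) hVb hWV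
        exact congr($h r) }
  let μ : Γ(Y', U') →ₐ[Γ(X, UX)] Γ(Z', W) :=
    { toRingHom := (m.appLE U' W hWm).hom
      commutes' := fun r => by
        have h : d.appLE UX U' hU'le ≫ m.appLE U' W hWm = c.appLE UX W hWc := by
          rw [Scheme.Hom.appLE_comp_appLE]
          simp only [hm₂]
        exact congr($h r) }
  have hμ : πT.comp μ = φ.comp πS := by
    have h : m.appLE U' W hWm ≫ i'.appLE W (i' ⁻¹ᵁ W) le_rfl =
        j.appLE U' (j ⁻¹ᵁ U') le_rfl ≫ i.appLE (j ⁻¹ᵁ U') (i' ⁻¹ᵁ W) hWV := by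
      rw [Scheme.Hom.appLE_comp_appLE, Scheme.Hom.appLE_comp_appLE]
      simp only [hm₁]
    exact AlgHom.ext fun r => congr($h r)
  -- the localisation
  letI : Algebra Γ(Z, U) Γ(Z, i' ⁻¹ᵁ W) := (Z.presheaf.map (homOfLE hWU).op).hom.toAlgebra
  haveI : IsLocalization.Away (α g) Γ(Z, i' ⁻¹ᵁ W) := hU.isLocalization_of_eq_basicOpen _ (homOfLE hWU) hWeq
  have hC : ∀ s, algebraMap Γ(Z, U) Γ(Z, i' ⁻¹ᵁ W) (α (MvPolynomial.C s)) = φ s := fun s => by
    have h1 : α (MvPolynomial.C s) = i.appLE (j ⁻¹ᵁ U') U eU s := RingHom.congr_fun hαC s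
    rw [h1]
    exact congr($(Scheme.Hom.appLE_map i eU (homOfLE hWU).op) s)
  -- the bilinear map
  have hker : ∀ k : RingHom.ker πS.toRingHom, j.app U' (k : Γ(Y', U')) = 0 := fun k => by
    rw [Scheme.Hom.app_eq_appLE]
    exact k.2
  choose sk hsk using fun k : RingHom.ker πS.toRingHom => exists_idealSect j U' _ (hker k)
  let Φ : Γ(Z, i' ⁻¹ᵁ W) →+ (RingHom.ker πS.toRingHom →+
      Γ((Scheme.Modules.pullback i).obj (Omega.conormal j), i' ⁻¹ᵁ W)) :=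
    AddMonoidHom.mk' (fun r => AddMonoidHom.mk' (fun k => r • genSect i j U' (i' ⁻¹ᵁ W) hWV (sk k))
      fun k k' => by
        rw [show sk (k + k') = sk k + sk k' from idealSect_injective (i := j) U' (by
          rw [map_add, hsk, hsk, hsk]; rfl), map_add, smul_add])
      fun r r' => AddMonoidHom.ext fun k => add_smul r r' (genSect i j U' (i' ⁻¹ᵁ W) hWV (sk k))
  have hΦ : ∀ (s : Γ(Y', U')) (r : Γ(Z, i' ⁻¹ᵁ W)) (k : RingHom.ker πS.toRingHom),
      Φ (φ (πS s) * r) k = Φ r (s • k) := fun s r k => by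
    show (φ (πS s) * r) • _ = r • genSect i j U' (i' ⁻¹ᵁ W) hWV (sk (s • k))
    rw [show sk (s • k) = s • sk k from idealSect_injective (i := j) U' (by
      rw [idealSect_smul, hsk, hsk]; rfl), genSect_smul, smul_smul, mul_comm r]
    refine congrArg (fun x => (x * r) • genSect i j U' (i' ⁻¹ᵁ W) hWV (sk k)) ?_
    show i.appLE (j ⁻¹ᵁ U') (i' ⁻¹ᵁ W) hWV (j.appLE U' (j ⁻¹ᵁ U') le_rfl s) = _
    rw [← Scheme.Hom.app_eq_appLE]
    rfl
  -- the elements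
  have hsurj : Function.Surjective πT := fun r => by
    obtain ⟨t, ht⟩ := i'.app_surjective W hW r
    refine ⟨t, ?_⟩
    show i'.appLE W (i' ⁻¹ᵁ W) le_rfl t = r
    rw [← Scheme.Hom.app_eq_appLE]
    exact ht
  have hWW₀ : i' ⁻¹ᵁ W ≤ W₀ := hWO₀.trans inf_le_left
  choose t ht using fun k => hsurj (ro hWW₀ (a k))
  let kk : Fin N → RingHom.ker πS.toRingHom := fun k => ⟨idealSect j.ker U' (u k), by
    show j.appLE U' (j ⁻¹ᵁ U') le_rfl (idealSect j.ker U' (u k)) = 0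
    rw [← Scheme.Hom.app_eq_appLE]
    exact app_idealSect j U' (u k)⟩
  have hsku : ∀ k, sk (kk k) = u k := fun k => idealSect_injective (i := j) U' (hsk _)
  have hmap : ∀ k, ∃ w : Γ(idl i', W), idealSect i'.ker W w = ro hWm (m.app U' (idealSect j.ker U' (u k))) := fun k => by
    obtain ⟨w, hw⟩ := exists_conormalMap_val hm₁.symm U' (u k)
    exact ⟨rs (idl i') hWm w, by rw [idealSect_rs, hw]⟩
  choose w hw using hmap
  have hrsx : rs _ hWO₀ x = ∑ k, ro hWW₀ (a k) • genSect i j U' (i' ⁻¹ᵁ W) hWV (u k) := by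
    refine (map_sum (((Scheme.Modules.pullback i).obj (Omega.conormal j)).presheaf.map (homOfLE hWO₀).op).hom _ _).trans
      (Finset.sum_congr rfl fun k _ => ?_)
    show rs _ hWO₀ (_ • _) = _
    rw [rs_smul, ro_ro, rs_genSect]
  have hψx : ψ.app (i' ⁻¹ᵁ W) (rs _ hWO₀ x) = 0 := by
    rw [hom_rs]
    have h1 := congrArg (rs (Omega.conormal i') (hWU.trans hUW₁)) (show rs (Omega.conormal i') r₁.le (ψ.app O₀ x) =
      rs (Omega.conormal i') r₂.le 0 from hW₁)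
    rw [rs_rs] at h1
    refine h1.trans ?_
    exact (congrArg (rs _ _) (map_zero _)).trans (map_zero _)
  have hsum : idealSect i'.ker W (∑ k, t k • w k) = 0 := by
    refine idealSect_eq_zero_of_conormalSect_eq_zero hi' hW _ ?_
    rw [map_sum (conormalSect i' W).hom]
    refine Eq.trans ?_ hψx
    rw [hrsx, map_sum]
    refine Finset.sum_congr rfl fun k _ => ?_
    rw [conormalSect_smul, Scheme.Modules.Hom.app_smul, app_genSect hm₁.symm hψ hWm hWV (u k) (w k) (hw k)]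
    refine congrArg (· • conormalSect i' W (w k)) ?_
    rw [← ht k, Scheme.Hom.app_eq_appLE]
    rfl
  have hmain : ∑ k, t k * μ (kk k : Γ(Y', U')) = 0 := by
    rw [← hsum, map_sum]
    refine Finset.sum_congr rfl fun k _ => ?_
    rw [idealSect_smul, hw k]
    rfl
  have hres := balanced_eq_zero_of_presentation πS hS πT hT φ μ hμ α hα hC g l hl Φ hΦ t kk hmain
  have hx0 : rs _ hWO₀ x = 0 := by
    rw [hrsx]
    refine Eq.trans (Finset.sum_congr rfl fun k _ => ?_) hres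
    show _ = (πT (t k)) • genSect i j U' (i' ⁻¹ᵁ W) hWV (sk (kk k))
    rw [ht, hsku]
  have hzW : z ∈ i' ⁻¹ᵁ W := hWeq.ge hzU₁
  rw [← hx, ← TopCat.Presheaf.germ_res_apply _ (homOfLE hWO₀) z hzW x]
  exact (congrArg _ hx0).trans (map_zero _)

end Groth.L19.Thick
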