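import Groth.Agent.L19.Thick.Glue
import Mathlib.AlgebraicGeometry.Morphisms.ClosedImmersion

/-!
# Transitivity of universal first order thickenings
-/

set_option autoImplicit false
set_option linter.style.haveILetI false
set_option backward.isDefEq.respectTransparency.types false
set_option backward.isDefEq.respectTransparency false

universe u

open CategoryTheory CategoryTheory.Limits AlgebraicGeometry

namespace Groth.L19.Thick

variable {Z Y X Z' Y' Z'' : Scheme.{u}} {i : Z ⟶ Y} {b : Y ⟶ X} {i' : Z ⟶ Z'} {c : Z' ⟶ X}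
  {j : Y ⟶ Y'} {d : Y' ⟶ X} {m : Z' ⟶ Y'} {i'' : Z ⟶ Z''} {e : Z'' ⟶ Y} {n : Z'' ⟶ Z'}

/-- The square of universal thickenings of a composition is cartesian. -/
theorem isPullback_transitivity (hZ' : OmegaSh.IsUnivThickening (i ≫ b) i' c)
    (hY' : OmegaSh.IsUnivThickening b j d) (hm₁ : i' ≫ m = i ≫ j) (hm₂ : m ≫ d = c)
    (hZ'' : OmegaSh.IsUnivThickening i i'' e) (hn₁ : i'' ≫ n = i') (hn₂ : n ≫ c = e ≫ b) :
    IsPullback n e m j := by
  obtain ⟨hi', hw', hex'⟩ := id hZ'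
  obtain ⟨hj, hwj, hexj⟩ := id hY'
  obtain ⟨hi'', hw'', -⟩ := id hZ''
  have hcomm : n ≫ m = e ≫ j := by
    obtain ⟨w, -, hwu⟩ := hexj Z Z'' i'' (e ≫ b) i hi'' (by rw [reassoc_of% hw''])
    rw [hwu (n ≫ m) ⟨by rw [reassoc_of% hn₁, hm₁], by rw [Category.assoc, hm₂, hn₂]⟩,
      hwu (e ≫ j) ⟨by rw [reassoc_of% hw''], by rw [Category.assoc, hwj]⟩]
  haveI : IsClosedImmersion j := hj.1.1
  haveI : IsClosedImmersion i' := hi'.1.1
  let p := pullback.fst m j
  let p' := pullback.snd m j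
  have hpj : p' ≫ j ≫ d = p ≫ c := by
    rw [← hm₂, ← pullback.condition_assoc]
  let k : Z ⟶ pullback m j := pullback.lift i' i hm₁
  have hk : k ≫ p = i' := pullback.lift_fst _ _ _
  have hk' : k ≫ p' = i := pullback.lift_snd _ _ _
  haveI : IsClosedImmersion (k ≫ p) := hk ▸ inferInstance
  haveI : IsClosedImmersion k := IsClosedImmersion.of_comp k p
  haveI : Surjective k := ⟨fun x => by
    obtain ⟨z, hz⟩ := hi'.1.2.surj (p x)
    refine ⟨z, p.isClosedEmbedding.injective ?_⟩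
    rw [← hz, ← hk]
    rfl⟩
  have hkfo : MoreMor.IsFirstOrderThickening k := mk_firstOrder (by
    rw [Groth.L17.Thick.ker_of_comp_mono k p i' hk, ← Groth.L22.Ideals.comap_mul, hi'.2,
      Scheme.IdealSheafData.comap_bot])
  have hk_univ : OmegaSh.IsUnivThickening i k p' := by
    refine ⟨hkfo, hk', fun T T' j₀ β a hj₀ hcond => ?_⟩
    obtain ⟨a', ⟨ha1, ha2⟩, hau⟩ := hex' T T' j₀ (β ≫ b) a hj₀ (by rw [reassoc_of% hcond])
    obtain ⟨w, -, hwu⟩ := hexj T T' j₀ (β ≫ b) (a ≫ i) hj₀ (by rw [reassoc_of% hcond, Category.assoc])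
    have hm : a' ≫ m = β ≫ j := by
      rw [hwu (a' ≫ m) ⟨by rw [reassoc_of% ha1, hm₁, Category.assoc], by rw [Category.assoc, hm₂, ha2]⟩,
        hwu (β ≫ j) ⟨by rw [reassoc_of% hcond, Category.assoc], by rw [Category.assoc, hwj]⟩]
    refine ⟨pullback.lift a' β hm, ⟨pullback.hom_ext ?_ ?_, pullback.lift_snd _ _ _⟩, fun v hv => ?_⟩
    · simp [k, ha1]
    · simp [k, hcond]
    · obtain ⟨hv1, hv2⟩ := hv
      refine pullback.hom_ext ?_ (by rw [pullback.lift_snd]; exact hv2)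
      rw [pullback.lift_fst]
      refine hau (v ≫ p) ⟨by rw [reassoc_of% hv1, hk], ?_⟩
      rw [Category.assoc, ← hpj, reassoc_of% hv2, hwj]
  obtain ⟨ε, hε1, hε2⟩ := exists_iso_of_isUniv hZ'' hk_univ
  obtain ⟨w, -, hwu⟩ := hex' Z Z'' i'' (e ≫ b) (𝟙 Z) hi'' (by rw [Category.id_comp, reassoc_of% hw''])
  have hεp : ε.hom ≫ p = n := by
    rw [hwu (ε.hom ≫ p) ⟨by rw [reassoc_of% hε1, hk, Category.id_comp],
      by rw [Category.assoc, ← hpj, reassoc_of% hε2, hwj]⟩,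
      hwu n ⟨by rw [hn₁, Category.id_comp], hn₂⟩]
  exact IsPullback.of_iso_pullback ⟨hcomm⟩ ε hεp hε2

end Groth.L19.Thick
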